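import Mathlib.AlgebraicGeometry.ResidueField
import Mathlib.FieldTheory.Galois.Infinite

/-!
# Galois descent of points with values in fields
-/

set_option autoImplicit false
set_option linter.style.haveILetI false
set_option backward.isDefEq.respectTransparency false

universe u

open CategoryTheory CategoryTheory.Limits AlgebraicGeometry

noncomputable section

namespace TorusDVRLib

/-- An extension of fields gives a monomorphism on field-valued points. -/
theorem cancel_fieldPt {K Ω : Type u} [Field K] [Field Ω] (ι : K →+* Ω) {A : Scheme.{u}}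
    (f g : Spec (CommRingCat.of K) ⟶ A)
    (h : Spec.map (CommRingCat.ofHom ι) ≫ f = Spec.map (CommRingCat.ofHom ι) ≫ g) : f = g := by
  obtain ⟨⟨x, φ⟩, rfl⟩ := (Scheme.SpecToEquivOfField K A).symm.surjective f
  obtain ⟨⟨y, ψ⟩, rfl⟩ := (Scheme.SpecToEquivOfField K A).symm.surjective g
  replace h : Spec.map (φ ≫ CommRingCat.ofHom ι) ≫ A.fromSpecResidueField x =
      Spec.map (ψ ≫ CommRingCat.ofHom ι) ≫ A.fromSpecResidueField y := by
    rw [Spec.map_comp, Spec.map_comp, Category.assoc, Category.assoc]; exact h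
  obtain ⟨e, he⟩ := Scheme.SpecToEquivOfField_eq_iff.1 ((Scheme.SpecToEquivOfField Ω A).symm.injective
    (a₁ := ⟨x, φ ≫ CommRingCat.ofHom ι⟩) (a₂ := ⟨y, ψ ≫ CommRingCat.ofHom ι⟩) h)
  dsimp only at e he
  subst e
  simp only [Scheme.residueFieldCongr_refl, Iso.refl_hom, Category.id_comp] at he
  refine congrArg (fun φ => (Scheme.SpecToEquivOfField K A).symm ⟨x, φ⟩) (CommRingCat.hom_ext (RingHom.ext fun a => ?_))
  exact ι.injective congr($(he).hom a)

/-- A point over a Galois extension fixed by the Galois group comes from the ground field. -/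
theorem exists_descendPt {K Ω : Type u} [Field K] [Field Ω] [Algebra K Ω] [IsGalois K Ω] {A : Scheme.{u}}
    (r : Spec (CommRingCat.of Ω) ⟶ A)
    (h : ∀ γ : Ω ≃ₐ[K] Ω, Spec.map (CommRingCat.ofHom (γ : Ω →+* Ω)) ≫ r = r) :
    ∃ r₀ : Spec (CommRingCat.of K) ⟶ A, Spec.map (CommRingCat.ofHom (algebraMap K Ω)) ≫ r₀ = r := by
  obtain ⟨⟨x, φ⟩, rfl⟩ := (Scheme.SpecToEquivOfField Ω A).symm.surjective r
  have hfix : ∀ (a : A.residueField x) (γ : Ω ≃ₐ[K] Ω), γ (φ.hom a) = φ.hom a := fun a γ => by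
    have h' : Spec.map (φ ≫ CommRingCat.ofHom (γ : Ω →+* Ω)) ≫ A.fromSpecResidueField x =
        Spec.map φ ≫ A.fromSpecResidueField x := by
      rw [Spec.map_comp, Category.assoc]; exact h γ
    obtain ⟨e, he⟩ := Scheme.SpecToEquivOfField_eq_iff.1 ((Scheme.SpecToEquivOfField Ω A).symm.injective
      (a₁ := ⟨x, φ ≫ CommRingCat.ofHom (γ : Ω →+* Ω)⟩) (a₂ := ⟨x, φ⟩) h')
    simp only [Scheme.residueFieldCongr_refl, Iso.refl_hom, Category.id_comp] at he
    exact congr($(he).hom a)
  have hr : ∀ a, φ.hom a ∈ (algebraMap K Ω).range := fun a =>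
    RingHom.mem_range.2 ((InfiniteGalois.mem_range_algebraMap_iff_fixed _).2 (hfix a))
  let ε : K ≃+* (algebraMap K Ω).range := RingEquiv.ofBijective (algebraMap K Ω).rangeRestrict
    ⟨fun a b e => (algebraMap K Ω).injective (congrArg Subtype.val e), (algebraMap K Ω).rangeRestrict_surjective⟩
  let ψ : A.residueField x →+* K := ε.symm.toRingHom.comp (φ.hom.codRestrict _ hr)
  refine ⟨Spec.map (CommRingCat.ofHom ψ) ≫ A.fromSpecResidueField x, ?_⟩
  show _ = Spec.map φ ≫ A.fromSpecResidueField x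
  rw [← Category.assoc, ← Spec.map_comp]
  refine congrArg (fun φ => Spec.map φ ≫ A.fromSpecResidueField x) (CommRingCat.hom_ext (RingHom.ext fun a => ?_))
  show algebraMap K Ω (ψ a) = φ.hom a
  exact congrArg Subtype.val (ε.apply_symm_apply (φ.hom.codRestrict _ hr a))

end TorusDVRLib
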