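import Mathlib.RingTheory.DiscreteValuationRing.TFAE
import Mathlib.RingTheory.DedekindDomain.Dvr
import Mathlib.RingTheory.DedekindDomain.IntegralClosure
import Mathlib.RingTheory.Unramified.LocalRing
import Mathlib.RingTheory.Unramified.Field
import Mathlib.RingTheory.Ideal.GoingDown
import Mathlib.FieldTheory.Galois.Basic
import Mathlib.FieldTheory.Normal.Closure
import Mathlib.FieldTheory.IsAlgClosed.AlgebraicClosure

/-!
# Galois closures of unramified algebras over a discrete valuation ring
-/

set_option autoImplicit false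
set_option linter.style.haveILetI false
universe u

open scoped TensorProduct

namespace TorusDVRLib

variable {A : Type u} [CommRing A] [IsDomain A] [IsDiscreteValuationRing A]

section Domain

variable (B : Type u) [CommRing B] [IsDomain B] [Algebra A B] [Module.Finite A B] [Algebra.FormallyUnramified A B]

theorem maximalIdeal_eq_span (hinj : Function.Injective (algebraMap A B)) {π : A} (hπ : Irreducible π)
    (P : Ideal B) [P.IsMaximal] :
    IsLocalRing.maximalIdeal (Localization.AtPrime P) = Ideal.span {algebraMap A (Localization.AtPrime P) π} ∧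
      algebraMap A (Localization.AtPrime P) π ≠ 0 := by
  haveI : Algebra.IsIntegral A B := Algebra.IsIntegral.of_finite A B
  have hπP : algebraMap A B π ∈ P := by
    have hm : (P.under A).IsMaximal := Ideal.IsMaximal.under A P
    have h : π ∈ P.under A := by
      rw [IsLocalRing.eq_maximalIdeal hm]
      exact hπ.not_isUnit
    exact Ideal.mem_comap.1 h
  haveI : IsLocalHom (algebraMap A (Localization.AtPrime P)) := by
    refine ⟨fun a ha => ?_⟩
    by_contra h
    have h1 : a ∈ IsLocalRing.maximalIdeal A := h
    rw [hπ.maximalIdeal_eq, Ideal.mem_span_singleton] at h1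
    obtain ⟨c, rfl⟩ := h1
    rw [IsScalarTower.algebraMap_apply A B, IsLocalization.AtPrime.isUnit_to_map_iff _ P] at ha
    exact ha (by rw [map_mul]; exact P.mul_mem_right _ hπP)
  haveI : Algebra.FormallyUnramified A (Localization.AtPrime P) :=
    Algebra.FormallyUnramified.comp A B (Localization.AtPrime P)
  haveI : Algebra.EssFiniteType A (Localization.AtPrime P) := Algebra.EssFiniteType.comp A B _
  constructor
  · have h := Algebra.FormallyUnramified.map_maximalIdeal (R := A) (S := Localization.AtPrime P)
    rw [hπ.maximalIdeal_eq, Ideal.map_span, Set.image_singleton] at h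
    exact h.symm
  · rw [IsScalarTower.algebraMap_apply A B]
    intro h
    have h1 : algebraMap A B π = 0 :=
      IsLocalization.injective (Localization.AtPrime P) P.primeCompl_le_nonZeroDivisors (h.trans (map_zero _).symm)
    exact hπ.ne_zero (hinj (h1.trans (map_zero _).symm))

theorem isDedekindDomainDvr_of_unramified (hinj : Function.Injective (algebraMap A B)) :
    IsDedekindDomainDvr B := by
  haveI : IsNoetherianRing B := IsNoetherianRing.of_finite A B
  haveI : Algebra.IsIntegral A B := Algebra.IsIntegral.of_finite A B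
  obtain ⟨π, hπ⟩ := IsDiscreteValuationRing.exists_irreducible A
  refine { is_dvr_at_nonzero_prime := fun P hP0 hP => ?_ }
  have hm : P.IsMaximal := by
    refine Ideal.isMaximal_of_isIntegral_of_isMaximal_comap (R := A) P ?_
    refine Ideal.IsPrime.isMaximal inferInstance ?_
    exact Ideal.IsIntegral.comap_ne_bot A hP0
  obtain ⟨h1, h2⟩ := maximalIdeal_eq_span B hinj hπ P
  haveI : IsNoetherianRing (Localization.AtPrime P) :=
    IsLocalization.isNoetherianRing P.primeCompl _ inferInstance
  have hnf : ¬ IsField (Localization.AtPrime P) := by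
    rw [IsLocalRing.isField_iff_maximalIdeal_eq, h1, Ideal.span_singleton_eq_bot]
    exact h2
  exact ((IsDiscreteValuationRing.TFAE (Localization.AtPrime P) hnf).out 0 4 : _ ↔ (IsLocalRing.maximalIdeal (Localization.AtPrime P)).IsPrincipal).mpr ⟨⟨_, h1⟩⟩

theorem pi_notMem_sq (hinj : Function.Injective (algebraMap A B)) {π : A} (hπ : Irreducible π)
    (P : Ideal B) [P.IsMaximal] : algebraMap A B π ∉ P ^ 2 := by
  haveI := isDedekindDomainDvr_of_unramified B hinj
  obtain ⟨h1, h2⟩ := maximalIdeal_eq_span B hinj hπ P
  intro h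
  have h3 := Ideal.mem_map_of_mem (algebraMap B (Localization.AtPrime P)) h
  rw [Ideal.map_pow, Localization.AtPrime.map_eq_maximalIdeal, h1, Ideal.span_singleton_pow,
    Ideal.mem_span_singleton, ← IsScalarTower.algebraMap_apply A B] at h3
  obtain ⟨c, hc⟩ := h3
  have hu : algebraMap A (Localization.AtPrime P) π ∈ nonunits _ := by
    rw [← IsLocalRing.mem_maximalIdeal, h1]
    exact Ideal.mem_span_singleton_self _
  refine hu (IsUnit.of_mul_eq_one c ?_)
  have : algebraMap A (Localization.AtPrime P) π * (algebraMap A (Localization.AtPrime P) π * c - 1) = 0 := by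
    linear_combination -hc
  rcases mul_eq_zero.1 this with h' | h'
  · exact absurd h' h2
  · exact sub_eq_zero.1 h'

end Domain

section Compositum

variable {C M : Type u} [CommRing C] [Algebra A C] [Module.Finite A C] [Algebra.FormallyUnramified A C]
  [CommRing M] [Algebra A M]

omit [IsDomain A] [IsDiscreteValuationRing A] in
theorem unramified_range {D : Type u} [CommRing D] [Algebra A D] [Module.Finite A D]
    [Algebra.FormallyUnramified A D] (f : D →ₐ[A] M) :
    Module.Finite A f.range ∧ Algebra.FormallyUnramified A f.range :=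
  ⟨Module.Finite.of_surjective f.rangeRestrict.toLinearMap f.rangeRestrict_surjective,
    Algebra.FormallyUnramified.of_surjective f.rangeRestrict f.rangeRestrict_surjective⟩

omit [IsDomain A] [IsDiscreteValuationRing A] in
theorem exists_compositum {ι : Type u} (s : Finset ι) (g : ι → C →ₐ[A] M) :
    ∃ S : Subalgebra A M, Module.Finite A S ∧ Algebra.FormallyUnramified A S ∧ ∀ i ∈ s, (g i).range ≤ S := by
  classical
  induction s using Finset.induction with
  | empty =>
    haveI : Algebra.FormallyUnramified A A := inferInstance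
    obtain ⟨h1, h2⟩ := unramified_range (Algebra.ofId A M)
    exact ⟨_, h1, h2, by simp⟩
  | insert a t _ ih =>
    obtain ⟨S, hS1, hS2, hS⟩ := ih
    haveI : Algebra.FormallyUnramified A (C ⊗[A] S) := Algebra.FormallyUnramified.comp A C _
    obtain ⟨h1, h2⟩ := unramified_range (Algebra.TensorProduct.productMap (g a) S.val)
    refine ⟨_, h1, h2, ?_⟩
    rw [Algebra.TensorProduct.productMap_range, Subalgebra.range_val]
    intro i hi
    rcases Finset.mem_insert.1 hi with rfl | hi
    · exact le_sup_left
    · exact (hS i hi).trans le_sup_right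

end Compositum

/-- A finite unramified algebra with flat structure map maps to the integers of a finite Galois extension
unramified over `A`. -/
theorem exists_galois (K : Type u) [Field K] [Algebra A K] [IsFractionRing A K]
    (C : Type u) [CommRing C] [Nontrivial C] [Algebra A C] [Module.Finite A C] [Module.Flat A C]
    [Algebra.FormallyUnramified A C] :
    ∃ (M : Type u) (_ : Field M) (_ : Algebra K M) (_ : Algebra A M) (_ : IsScalarTower A K M)
      (_ : FiniteDimensional K M) (_ : IsGalois K M) (_ : C →ₐ[A] integralClosure A M),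
      ∀ (π : A), Irreducible π → ∀ P : Ideal (integralClosure A M), P.IsMaximal →
        algebraMap A (integralClosure A M) π ∉ P ^ 2 := by
  classical
  obtain ⟨q, hq⟩ := Ideal.exists_maximal C
  obtain ⟨Q, -, hQ, hQover⟩ := Ideal.exists_ideal_le_liesOver_of_le q (p := (⊥ : Ideal A)) (q := q.under A) bot_le
  haveI := hQ
  let C₀ := C ⧸ Q
  have hinj : Function.Injective (algebraMap A C₀) := by
    rw [injective_iff_map_eq_zero]
    intro a ha
    rw [IsScalarTower.algebraMap_apply A C C₀, Ideal.Quotient.algebraMap_eq, Ideal.Quotient.eq_zero_iff_mem] at ha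
    have : a ∈ Q.under A := ha
    rw [← hQover.over] at this
    exact this
  haveI : Module.Finite A C₀ := Module.Finite.of_surjective (Ideal.Quotient.mkₐ A Q).toLinearMap
    Ideal.Quotient.mk_surjective
  haveI : FaithfulSMul A C₀ := (faithfulSMul_iff_algebraMap_injective A C₀).2 hinj
  let L₀ := FractionRing C₀
  haveI : FaithfulSMul A L₀ := (faithfulSMul_iff_algebraMap_injective A L₀).2 (by
    rw [IsScalarTower.algebraMap_eq A C₀ L₀]
    exact (IsFractionRing.injective C₀ L₀).comp hinj)
  letI : Algebra K L₀ := (IsFractionRing.lift (FaithfulSMul.algebraMap_injective A L₀)).toAlgebra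
  haveI : IsScalarTower A K L₀ := IsScalarTower.of_algebraMap_eq fun a =>
    (IsFractionRing.lift_algebraMap (FaithfulSMul.algebraMap_injective A L₀) a).symm
  haveI : Algebra.FormallyUnramified A L₀ := Algebra.FormallyUnramified.comp A C₀ L₀
  haveI : Algebra.FormallyUnramified K L₀ := Algebra.FormallyUnramified.of_restrictScalars A K L₀
  haveI : Algebra.EssFiniteType A L₀ := Algebra.EssFiniteType.comp A C₀ L₀
  haveI : Algebra.EssFiniteType K L₀ := Algebra.EssFiniteType.of_comp A K L₀
  haveI : FiniteDimensional K L₀ := Algebra.FormallyUnramified.finite_of_free K L₀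
  haveI : Algebra.IsSeparable K L₀ := Algebra.FormallyUnramified.isSeparable K L₀
  let Ω := AlgebraicClosure L₀
  let M₀ := IntermediateField.normalClosure K L₀ Ω
  let gs : (L₀ →ₐ[K] M₀) → C₀ →ₐ[A] M₀ := fun f => (f.restrictScalars A).comp (IsScalarTower.toAlgHom A C₀ L₀)
  obtain ⟨S, hS1, hS2, hS⟩ := exists_compositum (A := A) (Finset.univ : Finset (L₀ →ₐ[K] M₀)) gs
  have hSinj : Function.Injective (algebraMap A S) := by
    refine Function.Injective.of_comp (f := S.val) ?_
    rw [show (S.val : S → M₀) ∘ algebraMap A S = algebraMap K M₀ ∘ algebraMap A K from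
      funext fun a => IsScalarTower.algebraMap_apply A K M₀ a]
    exact (algebraMap K M₀).injective.comp (IsFractionRing.injective A K)
  haveI := isDedekindDomainDvr_of_unramified S hSinj
  -- the subalgebra generates `M₀`
  have hfrac : ∀ x : M₀, ∃ s : A, s ≠ 0 ∧ s • x ∈ S := by
    haveI := Algebra.IsAlgebraic.of_finite K M₀
    let T : IntermediateField K M₀ :=
      Subalgebra.toIntermediateField (
      { carrier := {x | ∃ s : A, s ≠ 0 ∧ s • x ∈ S}
        mul_mem' := by
          rintro x y ⟨s, hs, hx⟩ ⟨t, ht, hy⟩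
          exact ⟨s * t, mul_ne_zero hs ht, by
            rw [← smul_mul_smul_comm]; exact mul_mem hx hy⟩
        add_mem' := by
          rintro x y ⟨s, hs, hx⟩ ⟨t, ht, hy⟩
          refine ⟨s * t, mul_ne_zero hs ht, ?_⟩
          rw [smul_add, mul_comm s t, mul_smul, mul_comm t s, mul_smul]
          exact add_mem (S.smul_mem hx t) (S.smul_mem hy s)
        algebraMap_mem' := fun k => by
          obtain ⟨⟨a, s⟩, hk⟩ := IsLocalization.surj (nonZeroDivisors A) k
          refine ⟨s, nonZeroDivisors.coe_ne_zero s, ?_⟩
          rw [Algebra.smul_def, IsScalarTower.algebraMap_apply A K M₀, ← map_mul, mul_comm, hk,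
            ← IsScalarTower.algebraMap_apply A K M₀]
          exact S.algebraMap_mem a } : Subalgebra K M₀)
      fun x hx => Subalgebra.inv_mem_of_algebraic _ (x := ⟨x, hx⟩) (Algebra.IsAlgebraic.isAlgebraic x)
    suffices T = ⊤ from fun x => (this.symm ▸ IntermediateField.mem_top : x ∈ T)
    rw [eq_top_iff]
    rintro ⟨x, hx⟩ -
    have hle : IntermediateField.normalClosure K L₀ Ω ≤ T.map M₀.val := by
      rw [normalClosure_def]
      refine iSup_le fun f => ?_
      rintro _ ⟨l, rfl⟩
      refine ⟨(normalClosure.algHomEquiv K L₀ Ω).symm f l, ?_, rfl⟩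
      obtain ⟨⟨c, s⟩, hl⟩ := IsLocalization.surj (Algebra.algebraMapSubmonoid C₀ (nonZeroDivisors A)) l
      obtain ⟨s₀, hs₀, hs₀'⟩ := s.2
      refine ⟨s₀, nonZeroDivisors.ne_zero hs₀, hS _ (Finset.mem_univ ((normalClosure.algHomEquiv K L₀ Ω).symm f)) ⟨c, ?_⟩⟩
      change ((normalClosure.algHomEquiv K L₀ Ω).symm f) (algebraMap C₀ L₀ c) = s₀ • _
      rw [← hl, map_mul, Algebra.smul_def, mul_comm]
      congr 1
      rw [← hs₀', ← IsScalarTower.algebraMap_apply, IsScalarTower.algebraMap_apply A K L₀, AlgHom.commutes,
        ← IsScalarTower.algebraMap_apply]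
    obtain ⟨y, hy, hyx⟩ := hle hx
    rwa [show (⟨x, hx⟩ : M₀) = y from Subtype.ext hyx.symm]
  haveI : IsFractionRing S M₀ := by
    refine IsFractionRing.of_field S M₀ fun x => ?_
    obtain ⟨s, hs, hsx⟩ := hfrac x
    refine ⟨⟨_, hsx⟩, algebraMap A S s, ?_⟩
    change x = (s • x) / algebraMap A M₀ s
    rw [Algebra.smul_def, mul_div_cancel_left₀]
    exact fun h => hs (hSinj (Subtype.ext (h.trans (map_zero _).symm)))
  haveI : Algebra.IsIntegral A S := Algebra.IsIntegral.of_finite A S
  have hSeq : S = integralClosure A M₀ := by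
    refine le_antisymm (fun x hx => ?_) fun x hx => ?_
    · exact (Algebra.IsIntegral.isIntegral (R := A) (⟨x, hx⟩ : S)).map S.val
    · obtain ⟨y, hy⟩ := (IsIntegrallyClosed.isIntegral_iff (R := S) (K := M₀)).1
        (IsIntegral.tower_top (R := A) (A := S) (hx : IsIntegral A x))
      rw [← hy]
      exact y.2
  obtain ⟨f₀⟩ : Nonempty (C →ₐ[A] S) := by
    let f := (normalClosure.algHomEquiv K L₀ Ω).symm (IsScalarTower.toAlgHom K L₀ Ω)
    exact ⟨(AlgHom.codRestrict (gs f) S fun c => hS f (Finset.mem_univ f) ⟨c, rfl⟩).comp (Ideal.Quotient.mkₐ A Q)⟩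
  rw [hSeq] at f₀
  haveI hGal : IsGalois K M₀ := by
    haveI : Algebra.IsAlgebraic K Ω := Algebra.IsAlgebraic.trans K L₀ Ω
    haveI : Normal K Ω := by
      haveI : IsAlgClosure K Ω := ⟨inferInstance, inferInstance⟩
      exact IsAlgClosure.normal K Ω
    haveI : Algebra.IsSeparable K M₀ := by
      haveI : ∀ f : L₀ →ₐ[K] Ω, Algebra.IsSeparable K f.fieldRange := fun f =>
        AlgEquiv.Algebra.isSeparable (AlgEquiv.ofInjectiveField f)
      exact (IntermediateField.isSeparable_iSup K Ω : Algebra.IsSeparable K (⨆ f : L₀ →ₐ[K] Ω, f.fieldRange : IntermediateField K Ω))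
    exact ⟨⟩
  refine ⟨M₀, inferInstance, inferInstance, inferInstance, inferInstance, inferInstance, hGal,
    f₀, fun π hπ P hP => ?_⟩
  subst hSeq
  exact pi_notMem_sq (integralClosure A M₀) hSinj hπ P

end TorusDVRLib
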