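import Groth.Agent.MultSubLib.Chars
import Groth.Agent.PowEtCentralLib.Transport
import Mathlib.Algebra.Group.UniqueProds.Basic

/-!
# Points of split groups of multiplicative type in terms of characters
-/

set_option autoImplicit false
set_option linter.style.haveILetI false
set_option backward.isDefEq.respectTransparency false

universe u

open CategoryTheory CategoryTheory.Limits MonoidalCategory CartesianMonoidalCategory AlgebraicGeometry
open scoped MonObj

noncomputable section

namespace TorusDVRLib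

/-- Units of group algebras over domains are monomials. -/
theorem exists_unit_eq_single {R : Type u} [CommRing R] [IsDomain R] {G : Type} [CommGroup G] [TwoUniqueProds G]
    (x : (MonoidAlgebra R G)ˣ) : ∃ g c, (x : MonoidAlgebra R G) = MonoidAlgebra.single g c := by
  classical
  have hs : ∀ y : (MonoidAlgebra R G)ˣ, 0 < (y : MonoidAlgebra R G).coeff.support.card := fun y => by
    refine Finset.card_pos.2 (Finsupp.support_nonempty_iff.2 fun h => y.ne_zero ?_)
    exact MonoidAlgebra.coeff_injective (h.trans MonoidAlgebra.coeff_zero.symm)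
  have h1 : (x : MonoidAlgebra R G).coeff.support.card = 1 := by
    refine le_antisymm (not_lt.1 fun hlt => ?_) (hs x)
    have hlt' : 1 < (x : MonoidAlgebra R G).coeff.support.card * (↑x⁻¹ : MonoidAlgebra R G).coeff.support.card :=
      lt_of_lt_of_le hlt (Nat.le_mul_of_pos_right _ (hs x⁻¹))
    obtain ⟨p, hp, q, hq, hne, hpu, hqu⟩ := TwoUniqueProds.uniqueMul_of_one_lt_card hlt'
    have key : ∀ p ∈ (x : MonoidAlgebra R G).coeff.support ×ˢ (↑x⁻¹ : MonoidAlgebra R G).coeff.support,
        UniqueMul (x : MonoidAlgebra R G).coeff.support (↑x⁻¹ : MonoidAlgebra R G).coeff.support p.1 p.2 →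
          p.1 * p.2 = 1 := by
      intro p hp hu
      by_contra hc
      rw [Finset.mem_product, Finsupp.mem_support_iff, Finsupp.mem_support_iff] at hp
      have h2 := MonoidAlgebra.coeff_mul_mul_of_uniqueMul hu
      rw [x.mul_inv, MonoidAlgebra.one_def, MonoidAlgebra.coeff_single, Finsupp.single_eq_of_ne hc] at h2
      exact mul_ne_zero hp.1 hp.2 h2.symm
    have := hpu (Finset.mem_product.1 hq).1 (Finset.mem_product.1 hq).2 ((key q hq hqu).trans (key p hp hpu).symm)
    exact hne (Prod.ext this.1.symm this.2.symm)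
  obtain ⟨a, -, h⟩ := Finsupp.card_support_eq_one.1 h1
  exact ⟨a, _, MonoidAlgebra.coeff_injective h⟩

variable {A : Type u} [CommRing A]

/-- The spectrum of an algebra over the base. -/
abbrev spA (E : Type u) [CommRing E] [Algebra A E] : Over (Spec (CommRingCat.of A)) :=
  Over.mk (Spec.map (CommRingCat.ofHom (algebraMap A E)))

/-- The map of spectra induced by an algebra homomorphism. -/
def spMap {E E' : Type u} [CommRing E] [Algebra A E] [CommRing E'] [Algebra A E'] (φ : E →ₐ[A] E') :
    spA (A := A) E' ⟶ spA (A := A) E :=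
  Over.homMk (Spec.map (CommRingCat.ofHom φ.toRingHom))
    (by simp [← Spec.map_comp, ← CommRingCat.ofHom_comp])

theorem spMap_left {E E' : Type u} [CommRing E] [Algebra A E] [CommRing E'] [Algebra A E'] (φ : E →ₐ[A] E') :
    (spMap φ).left = Spec.map (CommRingCat.ofHom φ.toRingHom) := rfl

theorem eq_spMap {E E' : Type u} [CommRing E] [Algebra A E] [CommRing E'] [Algebra A E']
    {g : spA (A := A) E' ⟶ spA (A := A) E} {φ : E →ₐ[A] E'}
    (h : g.left = Spec.map (CommRingCat.ofHom φ.toRingHom)) : g = spMap φ :=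
  Over.OverMorphism.ext h

theorem spMap_comp {E E' E'' : Type u} [CommRing E] [Algebra A E] [CommRing E'] [Algebra A E'] [CommRing E'']
    [Algebra A E''] (φ : E →ₐ[A] E') (ψ : E' →ₐ[A] E'') : spMap (ψ.comp φ) = spMap ψ ≫ spMap φ :=
  Over.OverMorphism.ext (by simp [spMap, ← Spec.map_comp, ← CommRingCat.ofHom_comp]; rfl)

section Kappa

variable {U : Scheme.{u}} (j : U ⟶ Spec (CommRingCat.of A)) {T : Over (Spec (CommRingCat.of A))} [GrpObj T]
  {Λ : Type} [AddCommGroup Λ] (e : Grp.mk (Red.bc j T) ≅ Grp.mk (Red.DS U Λ))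

variable {E : Type u} [CommRing E] [Algebra A E] (q : Spec (CommRingCat.of E) ⟶ U)
  (hq : q ≫ j = Spec.map (CommRingCat.ofHom (algebraMap A E)))

/-- The point over the trivialising scheme. -/
abbrev liftU : Over U := Over.mk q

/-- The comparison of structure maps. -/
def toSpA : (Over.map j).obj (liftU q) ⟶ spA (A := A) E := Over.homMk (𝟙 _) (by simpa using hq.symm)

/-- Pulling back along the comparison is multiplicative. -/
def ofSpA : (spA (A := A) E ⟶ T) ≃* ((Over.map j).obj (liftU q) ⟶ T) where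
  toFun x := toSpA j q hq ≫ x
  invFun y := Over.homMk y.left (by simpa [hq] using Over.w y)
  left_inv x := Over.OverMorphism.ext (Category.id_comp _)
  right_inv y := Over.OverMorphism.ext (Category.id_comp _)
  map_mul' x y := MonObj.comp_mul _ _ _

/-- The character homomorphism of a point. -/
def kap (x : spA (A := A) E ⟶ T) : Multiplicative Λ →* E :=
  (Scheme.ΓSpecIso (CommRingCat.of E)).hom.hom.toMonoidHom.comp
    (MultSubLib.chars (PowEtCentralLib.adjEquiv j (liftU q) (ofSpA j q hq x) ≫ e.hom.hom.hom))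

theorem kap_mul (x y : spA (A := A) E ⟶ T) : kap j e q hq (x * y) = kap j e q hq x * kap j e q hq y := by
  haveI : IsMonHom e.hom.hom.hom := e.hom.hom.isMonHom_hom
  rw [kap, map_mul, map_mul, MonObj.mul_comp, MultSubLib.chars_mul]
  exact MonoidHom.comp_mul _ _ _

set_option synthInstance.maxHeartbeats 200000 in
theorem kap_one : kap j e q hq (1 : spA (A := A) E ⟶ T) = 1 := by
  haveI : IsMonHom e.hom.hom.hom := e.hom.hom.isMonHom_hom
  rw [kap, map_one, map_one, MonObj.one_comp, MultSubLib.chars_one]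
  exact MonoidHom.comp_one _

theorem kap_injective : Function.Injective (kap j e q hq) := by
  intro x y h
  refine (ofSpA j q hq).injective ((PowEtCentralLib.adjEquiv j (liftU q)).injective ?_)
  refine (cancel_mono e.hom.hom.hom).1 (MultSubLib.chars_injective (MonoidHom.ext fun m => ?_))
  exact (Scheme.ΓSpecIso (CommRingCat.of E)).commRingCatIsoToRingEquiv.injective (DFunLike.congr_fun h m)

theorem kap_surjective (χ : Multiplicative Λ →* E) : ∃ x, kap j e q hq x = χ := by
  refine ⟨(ofSpA j q hq).symm ((PowEtCentralLib.adjEquiv j (liftU q)).symm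
    (DSPtsLib.dsPt ((Scheme.ΓSpecIso (CommRingCat.of E)).inv.hom.toMonoidHom.comp χ) ≫ e.inv.hom.hom)), ?_⟩
  rw [kap, MulEquiv.apply_symm_apply, MulEquiv.apply_symm_apply, Category.assoc]
  have : e.inv.hom.hom ≫ e.hom.hom.hom = 𝟙 _ := congrArg (fun g => g.hom.hom) e.inv_hom_id
  rw [this, Category.comp_id, MultSubLib.chars_dsPt]
  refine MonoidHom.ext fun m => ?_
  exact (Scheme.ΓSpecIso (CommRingCat.of E)).commRingCatIsoToRingEquiv.apply_symm_apply (χ m)

theorem kap_congr {q' : Spec (CommRingCat.of E) ⟶ U} (h : q = q') (x : spA (A := A) E ⟶ T) :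
    kap j e q hq x = kap j e q' (h ▸ hq) x := by subst h; rfl

theorem kap_natural {E' : Type u} [CommRing E'] [Algebra A E'] (φ : E →ₐ[A] E')
    (q' : Spec (CommRingCat.of E') ⟶ U) (hq' : q' ≫ j = Spec.map (CommRingCat.ofHom (algebraMap A E')))
    (h : Spec.map (CommRingCat.ofHom φ.toRingHom) ≫ q = q') (x : spA (A := A) E ⟶ T) :
    kap j e q' hq' (spMap φ ≫ x) = φ.toRingHom.toMonoidHom.comp (kap j e q hq x) := by
  let g : liftU q' ⟶ liftU q := Over.homMk (Spec.map (CommRingCat.ofHom φ.toRingHom)) h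
  have h1 : ofSpA j q' hq' (spMap φ ≫ x) = (Over.map j).map g ≫ ofSpA j q hq x :=
    Over.OverMorphism.ext (by simp [ofSpA, toSpA, g, spMap])
  have h2 : PowEtCentralLib.adjEquiv j (liftU q') ((Over.map j).map g ≫ ofSpA j q hq x) =
      g ≫ PowEtCentralLib.adjEquiv j (liftU q) (ofSpA j q hq x) :=
    Adjunction.homEquiv_naturality_left (Over.mapPullbackAdj j) g (ofSpA j q hq x)
  rw [kap, h1, h2, Category.assoc, MultSubLib.chars_comp]
  refine MonoidHom.ext fun m => ?_
  exact RingHom.congr_fun (congrArg CommRingCat.Hom.hom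
    (Scheme.ΓSpecIso_naturality (CommRingCat.ofHom φ.toRingHom))) _

end Kappa

section Twist

variable {U : Scheme.{u}} (j : U ⟶ Spec (CommRingCat.of A)) {T : Over (Spec (CommRingCat.of A))} [GrpObj T]
  {Λ : Type} [AddCommGroup Λ] (e : Grp.mk (Red.bc j T) ≅ Grp.mk (Red.DS U Λ))
variable {B : Type u} [CommRing B] [IsDomain B] [Algebra A B] (qB : Spec (CommRingCat.of B) ⟶ U)
  (hqB : qB ≫ j = Spec.map (CommRingCat.ofHom (algebraMap A B)))

/-- The map to the trivialising scheme of an algebra over `B`. -/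
abbrev qOf {E : Type u} [CommRing E] (f : B →+* E) : Spec (CommRingCat.of E) ⟶ U :=
  Spec.map (CommRingCat.ofHom f) ≫ qB

include hqB in
theorem qOf_comp {E : Type u} [CommRing E] [Algebra A E] (f : B →ₐ[A] E) :
    qOf qB f.toRingHom ≫ j = Spec.map (CommRingCat.ofHom (algebraMap A E)) := by
  rw [Category.assoc, hqB, ← Spec.map_comp, ← CommRingCat.ofHom_comp, AlgHom.toRingHom_eq_coe, f.comp_algebraMap]

/-- A semilinear change of trivialisation permutes the characters. -/
theorem exists_twist [TwoUniqueProds (Multiplicative Λ)] (τ : B →ₐ[A] B) :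
    ∀ l : Multiplicative Λ, ∃ l' : Multiplicative Λ, ∀ (E : Type u) [CommRing E] [Algebra A E] (f : B →ₐ[A] E)
      (x : spA (A := A) E ⟶ T),
      kap j e _ (qOf_comp j qB hqB (f.comp τ)) x l = kap j e _ (qOf_comp j qB hqB f) x l' := by
  intro l
  let R := MonoidAlgebra B (Multiplicative Λ)
  let f₀ : B →ₐ[A] R := IsScalarTower.toAlgHom A B R
  obtain ⟨x₀, hx₀⟩ := kap_surjective j e _ (qOf_comp j qB hqB f₀) (MonoidAlgebra.of B (Multiplicative Λ))
  have hu : IsUnit (kap j e _ (qOf_comp j qB hqB (f₀.comp τ)) x₀ l) :=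
    (Group.isUnit l).map (kap j e _ (qOf_comp j qB hqB (f₀.comp τ)) x₀)
  obtain ⟨l', c, hlc⟩ := exists_unit_eq_single hu.unit
  rw [IsUnit.unit_spec] at hlc
  have key : ∀ (E : Type u) [CommRing E] [Algebra A E] (f : B →ₐ[A] E) (x : spA (A := A) E ⟶ T),
      kap j e _ (qOf_comp j qB hqB (f.comp τ)) x l = f c * kap j e _ (qOf_comp j qB hqB f) x l' := by
    intro E _ _ f x
    letI : Algebra B E := f.toRingHom.toAlgebra
    haveI : IsScalarTower A B E := IsScalarTower.of_algebraMap_eq fun a => (f.commutes a).symm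
    let φ : R →ₐ[A] E :=
      (MonoidAlgebra.lift B E (Multiplicative Λ) (kap j e _ (qOf_comp j qB hqB f) x)).restrictScalars A
    have hf : φ.comp f₀ = f := AlgHom.ext fun b =>
      (MonoidAlgebra.lift B E (Multiplicative Λ) (kap j e _ (qOf_comp j qB hqB f) x)).commutes b
    have hq1 : ∀ g : B →ₐ[A] B, Spec.map (CommRingCat.ofHom φ.toRingHom) ≫ qOf qB (f₀.comp g).toRingHom =
        qOf qB (f.comp g).toRingHom := fun g => by
      rw [← Category.assoc, ← Spec.map_comp, ← CommRingCat.ofHom_comp]
      congr 3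
      exact RingHom.ext fun b => AlgHom.congr_fun hf (g b)
    have hx : spMap φ ≫ x₀ = x := by
      refine kap_injective j e _ (qOf_comp j qB hqB f) ?_
      rw [kap_natural j e _ (qOf_comp j qB hqB f₀) φ _ (qOf_comp j qB hqB f)
        ((hq1 (AlgHom.id A B)).trans rfl) x₀, hx₀]
      refine MonoidHom.ext fun m => ?_
      exact MonoidAlgebra.lift_of _ _
    conv_lhs => rw [← hx]
    rw [kap_natural j e _ (qOf_comp j qB hqB (f₀.comp τ)) φ _ _ (hq1 τ)]
    change φ (kap j e _ (qOf_comp j qB hqB (f₀.comp τ)) x₀ l) = _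
    rw [hlc]
    exact (MonoidAlgebra.lift_single _ _ _).trans (Algebra.smul_def _ _)
  refine ⟨l', fun E _ _ f x => ?_⟩
  have h1 := key B (AlgHom.id A B) 1
  rw [kap_one, kap_one, MonoidHom.one_apply, MonoidHom.one_apply, mul_one] at h1
  rw [key E f x, ← show (1 : B) = c from h1, map_one, one_mul]

end Twist

end TorusDVRLib
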