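import Mathlib.RingTheory.DedekindDomain.Ideal.Lemmas
import Mathlib.RingTheory.DedekindDomain.PID
import Mathlib.RingTheory.DedekindDomain.IntegralClosure
import Mathlib.RingTheory.DiscreteValuationRing.Basic
import Mathlib.FieldTheory.Galois.Basic

/-!
# Galois stable uniformisers of an unramified extension of a discrete valuation ring
-/

set_option autoImplicit false
set_option linter.style.haveILetI false
set_option linter.unusedSectionVars false
universe u

noncomputable section

namespace TorusDVRLib

variable (A K M : Type u) [CommRing A] [IsDomain A] [IsDiscreteValuationRing A] [Field K] [Algebra A K]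
  [IsFractionRing A K] [Field M] [Algebra K M] [Algebra A M] [IsScalarTower A K M] [FiniteDimensional K M]

section Semilocal

variable (M' : Type u) [Field M'] [Algebra K M'] [Algebra A M'] [IsScalarTower A K M'] [FiniteDimensional K M']
  [Algebra.IsSeparable K M']

include K in
theorem integralClosure_dedekind : IsDedekindDomain (integralClosure A M') :=
  IsIntegralClosure.isDedekindDomain A K M' (integralClosure A M')

include K in
theorem injective_algebraMap : Function.Injective (algebraMap A (integralClosure A M')) := fun a b h => by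
  refine IsFractionRing.injective A K ((algebraMap K M').injective ?_)
  rw [← IsScalarTower.algebraMap_apply, ← IsScalarTower.algebraMap_apply]
  exact congrArg Subtype.val h

include K in
theorem integralClosure_pid : IsPrincipalIdealRing (integralClosure A M') := by
  haveI := integralClosure_dedekind A K M'
  haveI : Algebra.IsIntegral A (integralClosure A M') := IsIntegralClosure.isIntegral_algebra A M'
  haveI : FaithfulSMul A (integralClosure A M') :=
    (faithfulSMul_iff_algebraMap_injective _ _).2 (injective_algebraMap A K M')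
  haveI : Module.IsTorsionFree A (integralClosure A M') := inferInstance
  refine IsPrincipalIdealRing.of_finite_maximals ?_
  refine (IsDedekindDomain.primesOver_finite (IsLocalRing.maximalIdeal A) (integralClosure A M')).subset
    fun P (hP : P.IsMaximal) => ⟨hP.isPrime, ⟨?_⟩⟩
  exact (IsLocalRing.eq_maximalIdeal (Ideal.IsMaximal.under A P)).symm

end Semilocal

variable [IsGalois K M]

/-- The action of the Galois group on the integers. -/
abbrev act (σ : M ≃ₐ[K] M) : integralClosure A M ≃ₐ[A] integralClosure A M :=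
  (σ.restrictScalars A).mapIntegralClosure

@[simp]
theorem coe_act (σ : M ≃ₐ[K] M) (b : integralClosure A M) : (act A K M σ b : M) = σ b := rfl

theorem act_one (b : integralClosure A M) : act A K M 1 b = b := Subtype.ext rfl

theorem act_mul (σ τ : M ≃ₐ[K] M) (b : integralClosure A M) :
    act A K M (σ * τ) b = act A K M σ (act A K M τ b) := Subtype.ext rfl

theorem act_inv (σ : M ≃ₐ[K] M) (b : integralClosure A M) : act A K M σ (act A K M σ⁻¹ b) = b := by
  rw [← act_mul, mul_inv_cancel, act_one]

include K in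
/-- An integral element fixed by the whole group comes from the base. -/
theorem exists_of_fixed (b : integralClosure A M) (hb : ∀ σ : M ≃ₐ[K] M, act A K M σ b = b) :
    ∃ a : A, algebraMap A (integralClosure A M) a = b := by
  have hmem : (b : M) ∈ IntermediateField.fixedField (⊤ : Subgroup (M ≃ₐ[K] M)) :=
    fun σ => congrArg Subtype.val (hb σ.1)
  rw [IsGalois.fixedField_top] at hmem
  obtain ⟨k, hk⟩ := IntermediateField.mem_bot.1 hmem
  have hint : IsIntegral A k :=
    (isIntegral_algHom_iff (IsScalarTower.toAlgHom A K M) (algebraMap K M).injective).1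
      (show IsIntegral A (algebraMap K M k) by rw [show algebraMap K M k = b from hk]; exact b.2)
  obtain ⟨a, rfl⟩ := IsIntegrallyClosed.isIntegral_iff.1 hint
  exact ⟨a, Subtype.ext ((IsScalarTower.algebraMap_apply A K M a).trans hk)⟩

include K in
/-- The Galois group permutes the maximal ideals transitively. -/
theorem exists_act_eq (P Q : Ideal (integralClosure A M)) [P.IsMaximal] [Q.IsMaximal] :
    ∃ σ : M ≃ₐ[K] M, Q = P.comap (act A K M σ) := by
  classical
  haveI : Algebra.IsIntegral A (integralClosure A M) := IsIntegralClosure.isIntegral_algebra A M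
  by_contra h
  push Not at h
  have hsub : ¬ ((Q : Set (integralClosure A M)) ⊆
      ⋃ σ ∈ ((Finset.univ : Finset (M ≃ₐ[K] M)) : Set _), (P.comap (act A K M σ) : Set (integralClosure A M))) := by
    rw [Ideal.subset_union_prime 1 1 fun σ _ _ _ => Ideal.IsPrime.comap _]
    rintro ⟨σ, -, hσ⟩
    exact h σ (Ideal.IsMaximal.eq_of_le inferInstance (Ideal.IsPrime.comap (act A K M σ)).ne_top hσ)
  obtain ⟨b, hbQ, hb⟩ := Set.not_subset.1 hsub
  obtain ⟨a, ha⟩ := exists_of_fixed A K M (∏ τ : M ≃ₐ[K] M, act A K M τ b) fun σ => by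
    rw [map_prod]
    simp only [← act_mul]
    exact Fintype.prod_equiv (Equiv.mulLeft σ) _ _ fun τ => rfl
  have h1 : a ∈ Q.under A := by
    refine Ideal.mem_comap.2 (ha.symm ▸ ?_)
    rw [← Finset.prod_erase_mul _ _ (Finset.mem_univ (1 : M ≃ₐ[K] M)), act_one]
    exact Q.mul_mem_left _ hbQ
  rw [IsLocalRing.eq_maximalIdeal (Ideal.IsMaximal.under A Q),
    ← IsLocalRing.eq_maximalIdeal (Ideal.IsMaximal.under A P)] at h1
  have h2 := Ideal.mem_comap.1 h1
  rw [ha, Ideal.IsPrime.prod_mem_iff] at h2
  obtain ⟨σ, -, hσ⟩ := h2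
  exact hb (Set.mem_iUnion₂.2 ⟨σ, Finset.mem_coe.2 (Finset.mem_univ σ), hσ⟩)

variable {π : A}

include K in
/-- A generator of `P` fixed by the stabiliser of `P`. -/
theorem exists_fixed_generator (hπ : Irreducible π) (P : Ideal (integralClosure A M)) [hP : P.IsMaximal]
    (hπP : algebraMap A (integralClosure A M) π ∉ P ^ 2) :
    ∃ z : integralClosure A M, Ideal.span {z} = P ∧
      ∀ σ : M ≃ₐ[K] M, P.comap (act A K M σ) = P → act A K M σ z = z := by
  classical
  let D : Subgroup (M ≃ₐ[K] M) :=
    { carrier := {σ | ∀ b, act A K M σ b ∈ P ↔ b ∈ P}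
      one_mem' := fun b => by rw [act_one]
      mul_mem' := fun {σ τ} hσ hτ b => by rw [act_mul, hσ, hτ]
      inv_mem' := fun {σ} hσ b => by
        have := hσ (act A K M σ⁻¹ b)
        rw [act_inv] at this
        exact this.symm }
  let M₁ := IntermediateField.fixedField D
  haveI := integralClosure_dedekind A K M
  haveI := integralClosure_dedekind A K M₁
  haveI := integralClosure_pid A K M
  haveI := integralClosure_pid A K M₁
  let j : integralClosure A M₁ →ₐ[A] integralClosure A M := (M₁.val.restrictScalars A).mapIntegralClosure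
  haveI : Algebra.IsIntegral A (integralClosure A M) := IsIntegralClosure.isIntegral_algebra A M
  haveI : Algebra.IsIntegral A (integralClosure A M₁) := IsIntegralClosure.isIntegral_algebra A M₁
  have hπmem : algebraMap A (integralClosure A M) π ∈ P := by
    have h : π ∈ P.under A := by
      rw [IsLocalRing.eq_maximalIdeal (Ideal.IsMaximal.under A P)]
      exact hπ.not_isUnit
    exact Ideal.mem_comap.1 h
  let P₁ := P.comap j
  haveI : P₁.IsPrime := Ideal.IsPrime.comap j
  have hπ1 : algebraMap A (integralClosure A M₁) π ∈ P₁ :=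
    Ideal.mem_comap.2 (by rw [j.commutes]; exact hπmem)
  have hP1 : P₁ ≠ ⊥ := fun h0 => by
    rw [h0, Ideal.mem_bot] at hπ1
    exact hπ.ne_zero (injective_algebraMap A K M₁ (hπ1.trans (map_zero _).symm))
  haveI : P₁.IsMaximal := Ideal.IsPrime.isMaximal inferInstance hP1
  obtain ⟨z₁, hz₁⟩ : ∃ z₁, P₁ = Ideal.span {z₁} := Submodule.IsPrincipal.principal P₁
  have hz₁mem : z₁ ∈ P₁ := hz₁ ▸ Ideal.mem_span_singleton_self z₁
  refine ⟨j z₁, ?_, fun σ hσ => Subtype.ext ?_⟩
  · -- only `P` contains `j z₁`
    have honly : ∀ Q : Ideal (integralClosure A M), Q.IsMaximal → j z₁ ∈ Q → Q = P := by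
      intro Q hQ hzQ
      by_contra hne
      obtain ⟨b, hbQ, hbP⟩ := SetLike.not_le_iff_exists.1
        (fun hle => hne (hQ.eq_of_le hP.ne_top hle))
      let N := ∏ d : D, act A K M (d : M ≃ₐ[K] M) b
      have hN : (N : M) ∈ M₁ := by
        rintro ⟨σ, hσ⟩
        change σ (N : M) = N
        rw [← coe_act A K M σ N, map_prod]
        simp only [← act_mul]
        exact congrArg Subtype.val (Fintype.prod_equiv (Equiv.mulLeft (⟨σ, hσ⟩ : D)) _ _ fun τ => rfl)
      let N₁ : integralClosure A M₁ := ⟨⟨(N : M), hN⟩,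
        (isIntegral_algHom_iff (M₁.val.restrictScalars A) Subtype.val_injective).1 N.2⟩
      have hjN : j N₁ = N := Subtype.ext rfl
      have hle : P₁ ≤ Q.comap j := by
        rw [hz₁, Ideal.span_singleton_le_iff_mem]
        exact hzQ
      haveI := Ideal.IsPrime.comap j (K := Q)
      have heq : P₁ = Q.comap j := Ideal.IsMaximal.eq_of_le inferInstance (Ideal.IsPrime.comap j).ne_top hle
      have hNQ : N₁ ∈ Q.comap j := by
        rw [Ideal.mem_comap, hjN]
        refine Ideal.IsPrime.prod_mem_iff.2 ⟨1, Finset.mem_univ _, ?_⟩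
        rw [OneMemClass.coe_one, act_one]
        exact hbQ
      rw [← heq, Ideal.mem_comap, hjN] at hNQ
      obtain ⟨d, -, hd⟩ := Ideal.IsPrime.prod_mem_iff.1 hNQ
      exact hbP ((d.2 b).1 hd)
    obtain ⟨p, hp⟩ : ∃ p, P = Ideal.span {p} := Submodule.IsPrincipal.principal P
    have hzP : j z₁ ∈ P := Ideal.mem_comap.1 hz₁mem
    obtain ⟨e, he⟩ := Ideal.mem_span_singleton.1 (hp ▸ hzP)
    have hzsq : j z₁ ∉ P ^ 2 := by
      intro h
      obtain ⟨c, hc⟩ := Ideal.mem_span_singleton.1 (hz₁ ▸ hπ1)
      exact hπP (by rw [← j.commutes, hc, map_mul]; exact (P ^ 2).mul_mem_right _ h)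
    have hu : IsUnit e := by
      by_contra hu
      obtain ⟨Q, hQ, heQ⟩ := exists_max_ideal_of_mem_nonunits hu
      have hQP := honly Q hQ (he ▸ Q.mul_mem_left p heQ)
      rw [hQP] at heQ
      refine hzsq ?_
      rw [he, pow_two]
      exact Ideal.mul_mem_mul (hp ▸ Ideal.mem_span_singleton_self p) heQ
    rw [he, Ideal.span_singleton_mul_right_unit hu, hp]
  · have hσD : σ ∈ D := fun b => by rw [← Ideal.mem_comap (f := act A K M σ), hσ]
    exact (z₁ : M₁).2 ⟨σ, hσD⟩

include K in
/-- There is a Galois stable group of multiplicative representatives of the divisors. -/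
theorem exists_stable_complement
    (hunr : ∀ π : A, Irreducible π → ∀ P : Ideal (integralClosure A M), P.IsMaximal →
      algebraMap A (integralClosure A M) π ∉ P ^ 2) :
    ∃ G : Subgroup Mˣ, (∀ σ : M ≃ₐ[K] M, ∀ g ∈ G, Units.map (σ : M →* M) g ∈ G) ∧
      (∀ g ∈ G, IsIntegral A (g : M) → IsIntegral A ((g⁻¹ : Mˣ) : M) → g = 1) ∧
      ∀ l : Mˣ, ∃ g ∈ G, IsIntegral A ((l / g : Mˣ) : M) ∧ IsIntegral A ((g / l : Mˣ) : M) := by
  classical
  haveI := integralClosure_dedekind A K M
  haveI := integralClosure_pid A K M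
  haveI : IsFractionRing (integralClosure A M) M :=
    IsIntegralClosure.isFractionRing_of_finite_extension A K M (integralClosure A M)
  obtain ⟨π, hπ⟩ := IsDiscreteValuationRing.exists_irreducible A
  obtain ⟨P, hP⟩ := Ideal.exists_maximal (integralClosure A M)
  obtain ⟨z, hz, hfix⟩ := exists_fixed_generator A K M hπ P (hunr π hπ P hP)
  have hz0 : z ≠ 0 := by
    rintro rfl
    rw [Ideal.span_singleton_eq_bot.2 rfl] at hz
    exact hunr π hπ P hP (by
      rw [← hz]
      haveI : Algebra.IsIntegral A (integralClosure A M) := IsIntegralClosure.isIntegral_algebra A M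
      have h : π ∈ P.under A := by
        rw [IsLocalRing.eq_maximalIdeal (Ideal.IsMaximal.under A P)]
        exact hπ.not_isUnit
      have h2 := Ideal.mem_comap.1 h
      rw [← hz, Ideal.mem_bot] at h2
      rw [h2]
      exact zero_mem _)
  let R : Finset (integralClosure A M) := Finset.univ.image fun σ => act A K M σ z
  have hspan : ∀ σ, Ideal.span {act A K M σ z} = P.comap (act A K M σ⁻¹) := fun σ => by
    ext b
    rw [Ideal.mem_comap, ← hz, Ideal.mem_span_singleton, Ideal.mem_span_singleton]
    constructor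
    · rintro ⟨c, rfl⟩
      refine ⟨act A K M σ⁻¹ c, ?_⟩
      rw [map_mul, ← act_mul, inv_mul_cancel, act_one]
    · rintro ⟨c, hc⟩
      refine ⟨act A K M σ c, ?_⟩
      rw [← map_mul, ← hc, act_inv]
  have hprime : ∀ r ∈ R, Prime r := by
    intro r hr
    obtain ⟨σ, -, rfl⟩ := Finset.mem_image.1 hr
    have h0 : act A K M σ z ≠ 0 := by simpa using hz0
    exact (Ideal.span_singleton_prime h0).1 (hspan σ ▸ Ideal.IsPrime.comap _)
  have hassoc : ∀ r ∈ R, ∀ r' ∈ R, r ∣ r' → r = r' := by
    intro r hr r' hr' hdvd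
    have hass := (hprime r hr).associated_of_dvd (hprime r' hr') hdvd
    obtain ⟨σ, -, rfl⟩ := Finset.mem_image.1 hr
    obtain ⟨τ, -, rfl⟩ := Finset.mem_image.1 hr'
    have h1 := Ideal.span_singleton_eq_span_singleton.2 hass
    rw [hspan, hspan] at h1
    have h2 : act A K M (τ⁻¹ * σ) z = z := by
      refine hfix _ ?_
      ext b
      have := congrArg (fun I : Ideal _ => act A K M σ b ∈ I) h1
      simp only [Ideal.mem_comap, ← act_mul, inv_mul_cancel, act_one] at this
      rw [Ideal.mem_comap]
      exact (Eq.to_iff this).symm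
    rw [← congrArg (act A K M τ) h2, ← act_mul, mul_inv_cancel_left]
  have hu : ∀ r : R, ((r : integralClosure A M) : M) ≠ 0 := fun r h =>
    (hprime r r.2).ne_zero (Subtype.ext h)
  let v : R → Mˣ := fun r => Units.mk0 _ (hu r)
  let G : Subgroup Mˣ := Subgroup.closure (Set.range v)
  have hrep : ∀ g ∈ G, ∃ n : R → ℤ, g = ∏ r, v r ^ n r := by
    intro g hg
    induction hg using Subgroup.closure_induction with
    | mem x hx =>
      obtain ⟨r, rfl⟩ := hx
      exact ⟨Pi.single r 1, by simp [Pi.single_apply]⟩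
    | one => exact ⟨0, by simp⟩
    | mul x y _ _ hx hy =>
      obtain ⟨n, rfl⟩ := hx
      obtain ⟨m, rfl⟩ := hy
      exact ⟨n + m, by simp [zpow_add, Finset.prod_mul_distrib]⟩
    | inv x _ hx =>
      obtain ⟨n, rfl⟩ := hx
      exact ⟨-n, by simp⟩
  refine ⟨G, ?_, ?_, ?_⟩
  · intro σ g hg
    have hle : G ≤ G.comap (Units.map (σ : M →* M)) := by
      rw [Subgroup.closure_le]
      rintro _ ⟨⟨r, hr⟩, rfl⟩
      obtain ⟨τ, -, rfl⟩ := Finset.mem_image.1 hr
      refine Subgroup.subset_closure ⟨⟨act A K M (σ * τ) z, Finset.mem_image.2 ⟨_, Finset.mem_univ _, rfl⟩⟩,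
        Units.ext rfl⟩
    exact hle hg
  · intro g hg hg1 hg2
    obtain ⟨n, rfl⟩ := hrep g hg
    let x : integralClosure A M := ⟨_, hg1⟩
    let y : integralClosure A M := ⟨_, hg2⟩
    let pp : integralClosure A M := ∏ r : R, (r : integralClosure A M) ^ (n r).toNat
    let qq : integralClosure A M := ∏ r : R, (r : integralClosure A M) ^ (-n r).toNat
    have hpq : (∏ r, v r ^ n r) * ∏ r, v r ^ ((-n r).toNat) = ∏ r, v r ^ ((n r).toNat) := by
      rw [← Finset.prod_mul_distrib]
      refine Finset.prod_congr rfl fun r _ => ?_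
      rw [← zpow_natCast (v r) (-n r).toNat, ← zpow_natCast (v r) (n r).toNat, ← zpow_add]
      congr 1
      omega
    have hxq : x * qq = pp := Subtype.ext (by
      have := congrArg Units.val hpq
      simpa [x, pp, qq, v] using this)
    have hyp : y * pp = qq := Subtype.ext (by
      have := congrArg Units.val ((eq_inv_mul_iff_mul_eq).2 hpq)
      simpa [y, pp, qq, v] using this.symm)
    have key : ∀ (r : R) (e f : R → ℕ), 0 < e r → f r = 0 →
        ¬ (∏ r' : R, (r' : integralClosure A M) ^ e r') ∣ ∏ r' : R, (r' : integralClosure A M) ^ f r' := by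
      intro r e f he hf hdvd
      have h1 : (r : integralClosure A M) ∣ ∏ r' : R, (r' : integralClosure A M) ^ e r' :=
        (dvd_pow_self _ (Nat.pos_iff_ne_zero.1 he)).trans (Finset.dvd_prod_of_mem _ (Finset.mem_univ r))
      obtain ⟨r', -, hr'⟩ := (hprime r r.2).exists_mem_finset_dvd (h1.trans hdvd)
      have hne : f r' ≠ 0 := fun h0 => (hprime r r.2).not_isUnit (isUnit_of_dvd_one (by simpa [h0] using hr'))
      have := hassoc _ r.2 _ r'.2 ((hprime r r.2).dvd_of_dvd_pow hr')
      rw [← Subtype.ext this] at hne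
      exact hne hf
    refine Finset.prod_eq_one fun r _ => ?_
    rcases lt_trichotomy (n r) 0 with hlt | heq | hgt
    · exact absurd ⟨x, hxq.symm.trans (mul_comm _ _)⟩
        (key r (fun r => (-n r).toNat) (fun r => (n r).toNat) (by omega) (by omega))
    · rw [heq, zpow_zero]
    · exact absurd ⟨y, hyp.symm.trans (mul_comm _ _)⟩
        (key r (fun r => (n r).toNat) (fun r => (-n r).toNat) (by omega) (by omega))
  · let H : Subgroup Mˣ :=
      { carrier := {l | ∃ g ∈ G, IsIntegral A ((l / g : Mˣ) : M) ∧ IsIntegral A ((g / l : Mˣ) : M)}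
        one_mem' := ⟨1, one_mem _, by simp [isIntegral_one], by simp [isIntegral_one]⟩
        mul_mem' := by
          rintro l l' ⟨g, hg, h1, h2⟩ ⟨g', hg', h1', h2'⟩
          refine ⟨g * g', mul_mem hg hg', ?_, ?_⟩
          · rw [mul_div_mul_comm, Units.val_mul]; exact h1.mul h1'
          · rw [mul_div_mul_comm, Units.val_mul]; exact h2.mul h2'
        inv_mem' := by
          rintro l ⟨g, hg, h1, h2⟩
          exact ⟨g⁻¹, inv_mem hg, by rwa [inv_div_inv], by rwa [inv_div_inv]⟩ }
    suffices hB : ∀ b : integralClosure A M, ∀ hb : (b : M) ≠ 0, Units.mk0 (b : M) hb ∈ H by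
      intro l
      obtain ⟨b, c, hc, hbc⟩ := IsFractionRing.div_surjective (A := integralClosure A M) (l : M)
      change (b : M) / (c : M) = (l : M) at hbc
      have hc0 : (c : M) ≠ 0 := fun h => nonZeroDivisors.ne_zero hc (Subtype.ext h)
      have hb0 : (b : M) ≠ 0 := fun h => l.ne_zero (by rw [← hbc, h, zero_div])
      have : l = Units.mk0 _ hb0 / Units.mk0 _ hc0 := Units.ext (by simp [hbc.symm])
      rw [this]
      exact H.div_mem (hB b hb0) (hB c hc0)
    intro b
    induction b using UniqueFactorizationMonoid.induction_on_prime with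
    | h₁ => exact fun hb => absurd rfl hb
    | h₂ x hx =>
      intro hb
      obtain ⟨w, rfl⟩ := hx
      refine ⟨1, one_mem _, by rw [div_one, Units.val_mk0]; exact Subtype.prop _, ?_⟩
      have : ((1 / Units.mk0 _ hb : Mˣ) : M) = ((w⁻¹ : (integralClosure A M)ˣ) : integralClosure A M) := by
        simp only [one_div, Units.val_inv_eq_inv_val, Units.val_mk0]
        refine inv_eq_of_mul_eq_one_right ?_
        exact congrArg Subtype.val w.mul_inv
      rw [this]
      exact Subtype.prop _
    | h₃ b p hb0 hp ih =>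
      intro hb
      have hp0 : (p : M) ≠ 0 := fun h => hp.ne_zero (Subtype.ext h)
      have hb0' : (b : M) ≠ 0 := fun h => hb0 (Subtype.ext h)
      have : Units.mk0 _ hb = Units.mk0 _ hp0 * Units.mk0 _ hb0' := Units.ext rfl
      rw [this]
      refine H.mul_mem ?_ (ih hb0')
      haveI : (Ideal.span {p}).IsPrime := (Ideal.span_singleton_prime hp.ne_zero).2 hp
      haveI : (Ideal.span {p}).IsMaximal :=
        Ideal.IsPrime.isMaximal inferInstance (mt Ideal.span_singleton_eq_bot.1 hp.ne_zero)
      haveI := hP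
      obtain ⟨σ, hσ⟩ := exists_act_eq A K M P (Ideal.span {p})
      rw [← inv_inv σ, ← hspan, Ideal.span_singleton_eq_span_singleton] at hσ
      obtain ⟨w, hw⟩ := hσ
      refine ⟨v ⟨act A K M σ⁻¹ z, Finset.mem_image.2 ⟨_, Finset.mem_univ _, rfl⟩⟩,
        Subgroup.subset_closure ⟨_, rfl⟩, ?_, ?_⟩
      · have hw' := congrArg Subtype.val (congrArg (· * (↑w⁻¹ : integralClosure A M)) hw)
        simp only [mul_assoc, Units.mul_inv, mul_one] at hw'
        rw [Units.val_div_eq_div_val, Units.val_mk0, Units.val_mk0, hw', MulMemClass.coe_mul,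
          mul_div_cancel_left₀ _ (hu ⟨_, Finset.mem_image.2 ⟨_, Finset.mem_univ _, rfl⟩⟩)]
        exact Subtype.prop _
      · rw [Units.val_div_eq_div_val, Units.val_mk0, Units.val_mk0]
        change IsIntegral A (((act A K M σ⁻¹ z : integralClosure A M) : M) / (p : M))
        rw [← hw, MulMemClass.coe_mul,
          mul_div_cancel_left₀ _ hp0]
        exact Subtype.prop _

end TorusDVRLib
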