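import Groth.Agent.TorusDVRLib.Decomp
import Groth.Agent.TorusDVRLib.Galois
import Groth.Agent.TorusDVRLib.Units
import Groth.Agent.TorusDVRLib.Points
import Groth.Agent.TorusDVRLib.Descend
import Groth.Agent.AlgSpLib.AffineDescent
import Groth.Prelude.Def_TwC

/-!
# Points of an isotrivial torus over the completion of a discrete valuation ring
-/

set_option autoImplicit false
set_option linter.style.haveILetI false
set_option linter.unusedSectionVars false
set_option backward.isDefEq.respectTransparency false

universe u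

open CategoryTheory CategoryTheory.Limits MonoidalCategory CartesianMonoidalCategory AlgebraicGeometry IsDedekindDomain
open scoped MonObj TensorProduct

noncomputable section

namespace TorusDVRLib

section Split

variable {A : Type u} [CommRing A] [IsDomain A] [IsDiscreteValuationRing A] (v : HeightOneSpectrum A)
  (K : Type u) [Field K] [Algebra A K] [IsFractionRing A K]
  (M : Type u) [Field M] [Algebra K M] [Algebra A M] [IsScalarTower A K M] [FiniteDimensional K M] [IsGalois K M]
  {U : Scheme.{u}} (j : U ⟶ Spec (CommRingCat.of A)) {T : Over (Spec (CommRingCat.of A))} [GrpObj T]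
  {Λ : Type} [AddCommGroup Λ] (e : Grp.mk (Red.bc j T) ≅ Grp.mk (Red.DS U Λ))
  (qB : Spec (CommRingCat.of (integralClosure A M)) ⟶ U)
  (hqB : qB ≫ j = Spec.map (CommRingCat.ofHom (algebraMap A (integralClosure A M))))

set_option maxHeartbeats 1600000 in
include e qB hqB in
/-- A point over the completion is a product of an integral point and a rational point. -/
theorem exists_mul_of_split [IsAffine T.left] [TwoUniqueProds (Multiplicative Λ)]
    [IsLocalRing (v.adicCompletionIntegers K)]
    (hunr : ∀ π : A, Irreducible π → ∀ P : Ideal (integralClosure A M), P.IsMaximal →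
      algebraMap A (integralClosure A M) π ∉ P ^ 2)
    (ιA : spA (A := A) (v.adicCompletion K) ⟶ spA (A := A) (v.adicCompletionIntegers K))
    (hιA : ιA.left = Spec.map (CommRingCat.ofHom (algebraMap (v.adicCompletionIntegers K) (v.adicCompletion K))))
    (ιK : spA (A := A) (v.adicCompletion K) ⟶ spA (A := A) K)
    (hιK : ιK.left = Spec.map (CommRingCat.ofHom (algebraMap K (v.adicCompletion K))))
    (x : spA (A := A) (v.adicCompletion K) ⟶ T) :
    ∃ (a : spA (A := A) (v.adicCompletionIntegers K) ⟶ T) (b : spA (A := A) K ⟶ T),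
      x = (ιA ≫ a) * (ιK ≫ b) := by
  classical
  haveI := finite_integralClosure K (A := A) M
  haveI := isTorsionFree_integralClosure K (A := A) M
  haveI := free_integralClosure K (A := A) M
  obtain ⟨π, hπ⟩ := IsDiscreteValuationRing.exists_irreducible A
  obtain ⟨G, hG0, hG1, hG2⟩ := exists_stable_complement A K M hunr
  let BR := integralClosure A M
  let H := BR ⊗[A] v.adicCompletion K
  let HO := BR ⊗[A] v.adicCompletionIntegers K
  let fH : BR →ₐ[A] H := Algebra.TensorProduct.includeLeft
  let fO : BR →ₐ[A] HO := Algebra.TensorProduct.includeLeft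
  let incR : v.adicCompletion K →ₐ[A] H := Algebra.TensorProduct.includeRight
  let incA : HO →ₐ[A] H := (incl v K BR).restrictScalars A
  let kH := kap j e _ (qOf_comp j qB hqB fH)
  let xH := spMap incR ≫ x
  have hdec : ∀ l, ∃ g ∈ G, ∃ w : HOˣ, kH xH l = jM v K M (g : M) * incl v K BR w := fun l =>
    exists_decomp v K M hπ hG2 ((Group.isUnit l).map (kH xH))
  choose y hyG w hw using hdec
  have hy1 : y 1 = 1 := decomp_unique v K M hπ hG1 (hyG 1) (one_mem G) (w := w 1) (w' := 1) (by
    rw [← hw, map_one, Units.val_one, Units.val_one, map_one, map_one, one_mul])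
  have hymul : ∀ l l', y (l * l') = y l * y l' := fun l l' =>
    decomp_unique v K M hπ hG1 (hyG _) (mul_mem (hyG l) (hyG l')) (w := w (l * l')) (w' := w l * w l') (by
      rw [← hw, map_mul, hw, hw, Units.val_mul, Units.val_mul, map_mul, map_mul]
      ring)
  let yh : Multiplicative Λ →* M :=
    (Units.coeHom M).comp { toFun := y, map_one' := hy1, map_mul' := hymul }
  -- the rational point
  let fM : BR →ₐ[A] M := (integralClosure A M).val
  let kM := kap j e _ (qOf_comp j qB hqB fM)
  obtain ⟨bM, hbM⟩ := kap_surjective j e _ (qOf_comp j qB hqB fM) yh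
  have hbfix : ∀ σ : M ≃ₐ[K] M, spMap ((σ : M →ₐ[K] M).restrictScalars A) ≫ bM = bM := by
    intro σ
    let s : BR →ₐ[A] BR := (act A K M σ : BR →ₐ[A] BR)
    let σA : M →ₐ[A] M := (σ : M →ₐ[K] M).restrictScalars A
    refine kap_injective j e _ (qOf_comp j qB hqB (fM.comp s)) (MonoidHom.ext fun l => ?_)
    rw [kap_natural j e _ (qOf_comp j qB hqB fM) σA _ (qOf_comp j qB hqB (fM.comp s))
      (by rw [← Category.assoc, ← Spec.map_comp, ← CommRingCat.ofHom_comp]; rfl) bM]
    obtain ⟨l', hl'⟩ := exists_twist j e qB hqB s l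
    rw [hl' M fM bM, hbM]
    change σ (y l : M) = (y l' : M)
    let φ : H →ₐ[A] H := galT M (v.adicCompletion K) s
    have hφx : spMap φ ≫ xH = xH := by
      rw [← Category.assoc, ← spMap_comp, show φ.comp incR = incR from AlgHom.ext fun k => by
        show galT M _ s ((1 : BR) ⊗ₜ k) = 1 ⊗ₜ k
        rw [galT, Algebra.TensorProduct.map_tmul, map_one]
        rfl]
    have h1 : φ (kH xH l) = kH xH l' := by
      have h := DFunLike.congr_fun (kap_natural j e _ (qOf_comp j qB hqB fH) φ _ (qOf_comp j qB hqB (fH.comp s))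
        (by
          rw [← Category.assoc, ← Spec.map_comp, ← CommRingCat.ofHom_comp]
          congr 3) xH) l
      rw [hφx, hl' H fH xH] at h
      exact h.symm
    rw [hw, hw, map_mul, galT_jM v K M σA s (fun b => rfl), galT_incl] at h1
    refine congrArg Units.val (decomp_unique v K M hπ hG1 (hG0 σ _ (hyG l)) (hyG l')
      (w := Units.map (galT M (v.adicCompletionIntegers K) s : HO →* HO) (w l)) (w' := w l') ?_)
    exact h1
  obtain ⟨b₀, hb₀⟩ := exists_descendPt (K := K) (Ω := M) bM.left fun σ => congrArg CommaMorphism.left (hbfix σ)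
  have hb₀w : b₀ ≫ T.hom = Spec.map (CommRingCat.ofHom (algebraMap A K)) := by
    refine cancel_fieldPt (algebraMap K M) _ _ ?_
    rw [← Category.assoc, hb₀, ← Spec.map_comp, ← CommRingCat.ofHom_comp, ← IsScalarTower.algebraMap_eq]
    exact Over.w bM
  let b : spA (A := A) K ⟶ T := Over.homMk b₀ hb₀w
  let z : spA (A := A) (v.adicCompletion K) ⟶ T := x * (ιK ≫ b)⁻¹
  have hbH : spMap incR ≫ ιK ≫ b = spMap (jM v K M) ≫ bM := by
    refine Over.OverMorphism.ext ?_
    simp only [Over.comp_left, spMap_left, hιK, b, Over.homMk_left]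
    rw [← hb₀, ← Category.assoc, ← Category.assoc, ← Spec.map_comp, ← Spec.map_comp]
    congr 2
    refine CommRingCat.hom_ext ?_
    simp only [CommRingCat.hom_comp, CommRingCat.hom_ofHom]
    refine IsLocalization.ringHom_ext (nonZeroDivisors A) (RingHom.ext fun a => ?_)
    show incR (algebraMap K (v.adicCompletion K) (algebraMap A K a)) = jM v K M (algebraMap K M (algebraMap A K a))
    rw [← IsScalarTower.algebraMap_apply, ← IsScalarTower.algebraMap_apply, AlgHom.commutes, AlgHom.commutes]
  let zH := spMap incR ≫ z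
  have hkz : ∀ l, kH zH l = incl v K BR (w l) := by
    intro l
    have hx : xH = zH * (spMap incR ≫ ιK ≫ b) := by
      rw [← MonObj.comp_mul, inv_mul_cancel_right]
    have h := hw l
    rw [hx, hbH] at h
    change kap j e _ _ (_ * _) l = _ at h
    rw [kap_mul, MonoidHom.mul_apply, kap_natural j e _ (qOf_comp j qB hqB fM) (jM v K M) _ (qOf_comp j qB hqB fH)
      (by
        rw [← Category.assoc, ← Spec.map_comp, ← CommRingCat.ofHom_comp]
        congr 3
        exact RingHom.ext fun c => jM_coe v K M c) bM, hbM] at h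
    change kH zH l * jM v K M (y l : M) = _ at h
    rw [mul_comm (jM v K M (y l : M))] at h
    exact (((y l).isUnit.map (jM v K M)).mul_left_inj).1 h
  let wh : Multiplicative Λ →* HO :=
    { toFun := fun l => w l
      map_one' := incl_injective v K BR (by rw [← hkz, map_one, map_one])
      map_mul' := fun l l' => incl_injective v K BR (by rw [← hkz, map_mul, map_mul, hkz, hkz]) }
  obtain ⟨aH, haH⟩ := kap_surjective j e _ (qOf_comp j qB hqB fO) wh
  have hfac : spMap incA ≫ aH = zH := by
    refine kap_injective j e _ (qOf_comp j qB hqB fH) ?_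
    rw [kap_natural j e _ (qOf_comp j qB hqB fO) incA _ (qOf_comp j qB hqB fH)
      (by
        rw [← Category.assoc, ← Spec.map_comp, ← CommRingCat.ofHom_comp]
        congr 3), haH]
    exact MonoidHom.ext fun l => (hkz l).symm
  -- the integral point
  obtain ⟨fz, hfz⟩ : ∃ f, z.left ≫ T.left.isoSpec.hom = Spec.map f := ⟨_, (Spec.map_preimage _).symm⟩
  obtain ⟨fa, hfa⟩ : ∃ f, aH.left ≫ T.left.isoSpec.hom = Spec.map f := ⟨_, (Spec.map_preimage _).symm⟩
  have hring : fz ≫ CommRingCat.ofHom incR.toRingHom = fa ≫ CommRingCat.ofHom incA.toRingHom := by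
    refine Spec.map_injective ?_
    rw [Spec.map_comp, Spec.map_comp, ← hfz, ← hfa, ← Category.assoc, ← Category.assoc]
    exact congrArg (· ≫ T.left.isoSpec.hom) (congrArg CommaMorphism.left hfac).symm
  have hint : ∀ r, fz.hom r ∈ v.adicCompletionIntegers K := fun r =>
    mem_integers_of_incl v K (B := BR) (c := fa.hom r) (RingHom.congr_fun (congrArg CommRingCat.Hom.hom hring) r)
  let fI : Γ(T.left, ⊤) →+* v.adicCompletionIntegers K := fz.hom.codRestrict _ hint
  have hfI : CommRingCat.ofHom fI ≫ CommRingCat.ofHom (algebraMap (v.adicCompletionIntegers K) (v.adicCompletion K)) =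
      fz := CommRingCat.hom_ext (RingHom.ext fun r => rfl)
  let aL : Spec (CommRingCat.of (v.adicCompletionIntegers K)) ⟶ T.left :=
    Spec.map (CommRingCat.ofHom fI) ≫ T.left.isoSpec.inv
  have hzL : Spec.map (CommRingCat.ofHom (algebraMap (v.adicCompletionIntegers K) (v.adicCompletion K))) ≫ aL =
      z.left := by
    rw [← Category.assoc, ← Spec.map_comp, hfI, ← hfz, Category.assoc, Iso.hom_inv_id, Category.comp_id]
  have haw : aL ≫ T.hom = Spec.map (CommRingCat.ofHom (algebraMap A (v.adicCompletionIntegers K))) := by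
    obtain ⟨g, hg⟩ : ∃ g, aL ≫ T.hom = Spec.map g := ⟨_, (Spec.map_preimage _).symm⟩
    rw [hg]
    congr 1
    have h : g ≫ CommRingCat.ofHom (algebraMap (v.adicCompletionIntegers K) (v.adicCompletion K)) =
        CommRingCat.ofHom (algebraMap A (v.adicCompletion K)) := by
      refine Spec.map_injective ?_
      rw [Spec.map_comp, ← hg, ← Category.assoc, hzL]
      exact Over.w z
    refine CommRingCat.hom_ext (RingHom.ext fun r => Subtype.ext ?_)
    exact RingHom.congr_fun (congrArg CommRingCat.Hom.hom h) r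
  refine ⟨Over.homMk aL haw, b, ?_⟩
  have : ιA ≫ Over.homMk aL haw = z := Over.OverMorphism.ext (by simp [hιA, hzL])
  rw [this, inv_mul_cancel_right]

end Split

/-- An isotrivial torus over a discrete valuation ring: points over the completion. -/
theorem exists_mul_of_isotrivial {A : Type u} [CommRing A] [IsDomain A] [IsDiscreteValuationRing A]
    (v : HeightOneSpectrum A) (K : Type u) [Field K] [Algebra A K] [IsFractionRing A K]
    [IsLocalRing (v.adicCompletionIntegers K)]
    (T : Over (Spec (CommRingCat.of A))) [GrpObj T] (r : ℕ)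
    (hT : TwC.Locally (Spec (CommRingCat.of A)) .finiteEtale
        (fun _ g => Red.IsSplitTorusWith (Fin r → ℤ) (Red.bc g T)))
    (ιA : spA (A := A) (v.adicCompletion K) ⟶ spA (A := A) (v.adicCompletionIntegers K))
    (hιA : ιA.left = Spec.map (CommRingCat.ofHom (algebraMap (v.adicCompletionIntegers K) (v.adicCompletion K))))
    (ιK : spA (A := A) (v.adicCompletion K) ⟶ spA (A := A) K)
    (hιK : ιK.left = Spec.map (CommRingCat.ofHom (algebraMap K (v.adicCompletion K))))
    (x : spA (A := A) (v.adicCompletion K) ⟶ T) :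
    ∃ (a : spA (A := A) (v.adicCompletionIntegers K) ⟶ T) (b : spA (A := A) K ⟶ T),
      x = (ιA ≫ a) * (ιK ≫ b) := by
  obtain ⟨S', f, hf, hfe, hfs, hcov⟩ := hT
  obtain ⟨s', -⟩ := hfs.surj (IsLocalRing.closedPoint A)
  obtain ⟨U, hsU, hUc, ⟨e⟩⟩ := hcov s'
  haveI : IsClosedImmersion U.ι := by
    refine IsClosedImmersion.of_isPreimmersion _ ?_
    rwa [Scheme.Opens.range_ι]
  haveI : IsFinite (U.ι ≫ f) := inferInstance
  haveI : Etale (U.ι ≫ f) := inferInstance
  let j : (U : Scheme.{u}) ⟶ Spec (CommRingCat.of A) := U.ι ≫ f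
  haveI : Nonempty (U : Scheme.{u}) := ⟨⟨s', hsU⟩⟩
  haveI : Surjective j := ⟨fun p => by
    haveI : UniversallyOpen j := UniversallyOpen.of_flat j
    have hopen : IsOpen (Set.range j) := (Scheme.Hom.isOpenMap j).isOpen_range
    have hclosed : IsClosed (Set.range j) := IsProperMap.isClosed_range (Scheme.Hom.isProperMap j)
    haveI : PreconnectedSpace (Spec (CommRingCat.of A)) := by
      show PreconnectedSpace (PrimeSpectrum A)
      infer_instance
    rcases isClopen_iff.1 ⟨hclosed, hopen⟩ with h | h
    · exact absurd h (Set.range_nonempty _).ne_empty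
    · exact (Set.ext_iff.1 h p).2 trivial⟩
  haveI : IsAffine (U : Scheme.{u}) := isAffine_of_isAffineHom j
  haveI : IsAffine T.left := by
    haveI : IsAffine (Red.DS (U : Scheme.{u}) (Fin r → ℤ)).left := by
      haveI : IsAffine (Red.diag (ULift.{u} ℤ) (Fin r → ℤ)).left := isAffine_Spec _
      show IsAffine (pullback (Red.diag (ULift.{u} ℤ) (Fin r → ℤ)).hom (specULiftZIsTerminal.from (U : Scheme.{u})))
      infer_instance
    haveI : IsAffine (pullback T.hom j) :=
      @IsAffine.of_isIso _ _ ((Over.forget _).mapIso ((Grp.forget _).mapIso e)).hom _ ‹IsAffine (Red.DS (U : Scheme.{u}) (Fin r → ℤ)).left›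
    exact AlgSpLib.isAffine_of_descent (IsPullback.of_hasPullback T.hom j)
  -- the ring of the trivialising scheme
  let C : CommRingCat.{u} := Γ((U : Scheme.{u}), ⊤)
  obtain ⟨φ, hφ⟩ : ∃ φ : CommRingCat.of A ⟶ C, Spec.map φ = (U : Scheme.{u}).isoSpec.inv ≫ j :=
    ⟨Spec.preimage _, Spec.map_preimage _⟩
  letI : Algebra A C := φ.hom.toAlgebra
  have hφ' : CommRingCat.ofHom (algebraMap A C) = φ := rfl
  haveI : Nontrivial C := by
    obtain ⟨p⟩ : Nonempty (Spec C) := ⟨(U : Scheme.{u}).isoSpec.hom ⟨s', hsU⟩⟩
    exact (PrimeSpectrum.nontrivial (R := C) p)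
  have hfin : IsFinite (Spec.map φ) := by rw [hφ]; infer_instance
  have het : Etale (Spec.map φ) := by rw [hφ]; infer_instance
  haveI : Module.Finite A C := RingHom.finite_algebraMap.1 ((IsFinite.SpecMap_iff φ).1 hfin)
  haveI : Algebra.Etale A C := (RingHom.etale_algebraMap).1 ((HasRingHomProperty.Spec_iff (P := @Etale)).1 het)
  obtain ⟨M, _, _, _, _, _, _, f₀, hunr⟩ := exists_galois K C (A := A)
  let qB : Spec (CommRingCat.of (integralClosure A M)) ⟶ (U : Scheme.{u}) :=
    Spec.map (CommRingCat.ofHom f₀.toRingHom) ≫ (U : Scheme.{u}).isoSpec.inv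
  have hqB : qB ≫ j = Spec.map (CommRingCat.ofHom (algebraMap A (integralClosure A M))) := by
    rw [Category.assoc, ← hφ, ← hφ', ← Spec.map_comp, ← CommRingCat.ofHom_comp]
    congr 2
    exact f₀.comp_algebraMap
  exact exists_mul_of_split v K M j e qB hqB hunr ιA hιA ιK hιK x

end TorusDVRLib
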