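import Mathlib.RingTheory.DedekindDomain.AdicValuation
import Mathlib.RingTheory.DiscreteValuationRing.Basic
import Mathlib.RingTheory.TensorProduct.Free
import Mathlib.RingTheory.Flat.Basic
import Mathlib.RingTheory.Localization.FractionRing

/-!
# Units of a finite free algebra over the completion of a discrete valuation ring
-/

set_option autoImplicit false
universe u

open IsDedekindDomain WithZero
open scoped TensorProduct

noncomputable section

namespace TorusDVRLib

variable {A : Type u} [CommRing A] [IsDomain A] [IsDiscreteValuationRing A] (v : HeightOneSpectrum A)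
  {π : A} (hπ : Irreducible π)
  (K : Type u) [Field K] [Algebra A K] [IsFractionRing A K]

include hπ in
theorem asIdeal_eq : v.asIdeal = Ideal.span {π} := by
  rw [← hπ.maximalIdeal_eq]
  exact IsLocalRing.eq_maximalIdeal (v.isPrime.isMaximal v.ne_bot)

include hπ in
theorem valued_pow (n : ℕ) :
    Valued.v (algebraMap A (v.adicCompletion K) (π ^ n)) = exp (-(n : ℤ)) := by
  have h1 : v.intValuation π = exp (-1 : ℤ) := v.intValuation_singleton hπ.ne_zero (asIdeal_eq v hπ)
  rw [IsScalarTower.algebraMap_apply A K (v.adicCompletion K)]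
  refine (v.valuedAdicCompletion_eq_valuation' _).trans ?_
  change v.valuation K (algebraMap A K (π ^ n)) = _
  rw [v.valuation_of_algebraMap, map_pow, h1, ← exp_nsmul]
  simp

include hπ in
theorem pow_ne_zero' (n : ℕ) : algebraMap A (v.adicCompletion K) (π ^ n) ≠ 0 := by
  intro h
  have := valued_pow v hπ K n
  rw [h, map_zero] at this
  exact exp_ne_zero this.symm

theorem val_algebraMap (a : A) :
    ((algebraMap A (v.adicCompletionIntegers K) a : v.adicCompletionIntegers K) : v.adicCompletion K) =
      algebraMap A (v.adicCompletion K) a := rfl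

include hπ in
/-- An element of the completion becomes integral after multiplication by a power of `π`. -/
theorem exists_pow_mul (z : v.adicCompletion K) :
    ∃ (n : ℕ) (c : v.adicCompletionIntegers K), algebraMap A (v.adicCompletion K) (π ^ n) * z = c := by
  by_cases hz : Valued.v z = 0
  · refine ⟨0, ⟨z, ?_⟩, by simp⟩
    rw [HeightOneSpectrum.mem_adicCompletionIntegers A K v, hz]
    exact zero_le_one
  · refine ⟨(log (Valued.v z)).natAbs, ⟨_, ?_⟩, rfl⟩
    rw [HeightOneSpectrum.mem_adicCompletionIntegers A K v, map_mul, valued_pow v hπ K]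
    nth_rewrite 2 [← exp_log hz]
    rw [← exp_add, ← exp_zero, exp_le_exp]
    omega

include hπ in
/-- The integers modulo `π ^ n` come from `A`. -/
theorem exists_sub (z : v.adicCompletionIntegers K) (n : ℕ) :
    ∃ (a : A) (e : v.adicCompletionIntegers K),
      z = algebraMap A (v.adicCompletionIntegers K) a + algebraMap A (v.adicCompletionIntegers K) (π ^ n) * e := by
  have hopen : IsOpen {w : v.adicCompletion K | Valued.v (w - z) ≤ exp (-(n : ℤ))} := by
    have hr : Valued.v.restrict (algebraMap A (v.adicCompletion K) (π ^ n)) ≠ 0 := by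
      simpa using pow_ne_zero' v hπ K n
    have h := (Valued.isOpen_closedBall (v.adicCompletion K) hr).preimage
      (continuous_id.sub (continuous_const (y := (z : v.adicCompletion K))))
    convert h using 1
    ext w
    simp only [Set.mem_ofPred_eq, Set.mem_preimage, Valuation.restrict_le_iff, valued_pow v hπ K, Pi.sub_apply, id]
  obtain ⟨k, hk⟩ := (v.denseRange_algebraMap (K := K)).exists_mem_open hopen ⟨z, by simp⟩
  have hk' : Valued.v (algebraMap K (v.adicCompletion K) k - (z : v.adicCompletion K)) ≤ exp (-(n : ℤ)) := hk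
  have hk1 : v.valuation K k ≤ 1 := by
    have h1 : Valued.v (algebraMap K (v.adicCompletion K) k) ≤ 1 := by
      have h2 := Valued.v.map_add (algebraMap K (v.adicCompletion K) k - (z : v.adicCompletion K)) z
      rw [sub_add_cancel] at h2
      refine h2.trans (max_le (hk'.trans ?_) z.2)
      rw [← exp_zero, exp_le_exp]
      omega
    exact (v.valuedAdicCompletion_eq_valuation' k).symm.trans_le h1
  obtain ⟨a, rfl⟩ : k ∈ (algebraMap A K).range := by
    refine HeightOneSpectrum.mem_integers_of_valuation_le_one K k fun w => ?_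
    have : w = v := HeightOneSpectrum.ext ((asIdeal_eq w hπ).trans (asIdeal_eq v hπ).symm)
    rw [this]; exact hk1
  rw [← IsScalarTower.algebraMap_apply] at hk'
  refine ⟨a, ⟨(algebraMap A (v.adicCompletion K) (π ^ n))⁻¹ *
    ((z : v.adicCompletion K) - algebraMap A (v.adicCompletion K) a), ?_⟩, ?_⟩
  · rw [HeightOneSpectrum.mem_adicCompletionIntegers A K v, map_mul, map_inv₀, valued_pow v hπ K, Valuation.map_sub_swap,
      inv_mul_le_iff₀ (exp_pos), mul_one]
    exact hk'
  · refine Subtype.ext ?_
    push_cast [val_algebraMap]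
    rw [← mul_assoc, ← map_pow, mul_inv_cancel₀ (pow_ne_zero' v hπ K n), one_mul, add_sub_cancel]

include hπ in
/-- Divisibility by powers of `π` is detected in the completion. -/
theorem dvd_of_dvd (a : A) (n : ℕ) (e : v.adicCompletionIntegers K)
    (h : algebraMap A (v.adicCompletion K) a = algebraMap A (v.adicCompletion K) (π ^ n) * e) : π ^ n ∣ a := by
  have h1 : v.valuation K (algebraMap A K a) ≤ exp (-(n : ℤ)) := by
    have h2 : Valued.v (algebraMap A (v.adicCompletion K) a) ≤ exp (-(n : ℤ)) := by
      rw [h, map_mul, valued_pow v hπ K]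
      exact mul_le_of_le_one_right' e.2
    rw [IsScalarTower.algebraMap_apply A K (v.adicCompletion K)] at h2
    exact (v.valuedAdicCompletion_eq_valuation' _).symm.trans_le h2
  rw [v.valuation_of_algebraMap, v.intValuation_le_pow_iff_mem, asIdeal_eq v hπ, Ideal.span_singleton_pow,
    Ideal.mem_span_singleton] at h1
  exact h1

include hπ in
theorem not_isUnit : ¬ IsUnit (algebraMap A (v.adicCompletionIntegers K) π) := by
  intro hu
  obtain ⟨e, he⟩ := hu.exists_right_inv
  have := dvd_of_dvd v hπ K 1 1 e (by
    have h2 := congrArg Subtype.val he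
    push_cast [val_algebraMap] at h2
    rw [pow_one, map_one]
    exact h2.symm)
  rw [pow_one] at this
  exact hπ.not_isUnit (isUnit_of_dvd_one this)

section Algebra

variable (B : Type u) [CommRing B] [Algebra A B] [Module.Finite A B] [Module.Flat A B]

/-- From the completed algebra to its generic fibre. -/
def incl : B ⊗[A] v.adicCompletionIntegers K →ₐ[B] B ⊗[A] v.adicCompletion K :=
  Algebra.TensorProduct.map (AlgHom.id B B) (IsScalarTower.toAlgHom A (v.adicCompletionIntegers K) (v.adicCompletion K))

theorem incl_injective : Function.Injective (incl v K B) :=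
  Module.Flat.lTensor_preserves_injective_linearMap (M := B)
    (IsScalarTower.toAlgHom A (v.adicCompletionIntegers K) (v.adicCompletion K)).toLinearMap Subtype.val_injective

include hπ in
theorem exists_incl_eq (w : B ⊗[A] v.adicCompletion K) :
    ∃ (n : ℕ) (c : B ⊗[A] v.adicCompletionIntegers K),
      algebraMap A (B ⊗[A] v.adicCompletion K) (π ^ n) * w = incl v K B c := by
  induction w using TensorProduct.induction_on with
  | zero => exact ⟨0, 0, by simp⟩
  | tmul b z =>
    obtain ⟨n, c, hc⟩ := exists_pow_mul v hπ K z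
    refine ⟨n, b ⊗ₜ c, ?_⟩
    rw [← Algebra.TensorProduct.includeRight.commutes (π ^ n), Algebra.TensorProduct.includeRight_apply,
      Algebra.TensorProduct.tmul_mul_tmul, one_mul, hc]
    rfl
  | add x y hx hy =>
    obtain ⟨n, c, hc⟩ := hx
    obtain ⟨m, d, hd⟩ := hy
    refine ⟨n + m, algebraMap A _ (π ^ m) * c + algebraMap A _ (π ^ n) * d, ?_⟩
    rw [map_add, map_mul, map_mul, AlgHom.map_algebraMap, AlgHom.map_algebraMap, ← hc, ← hd, pow_add, map_mul]
    ring

include hπ in
theorem exists_approx (c : B ⊗[A] v.adicCompletionIntegers K) (N : ℕ) :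
    ∃ (b : B) (e : B ⊗[A] v.adicCompletionIntegers K),
      c = b ⊗ₜ 1 + algebraMap A _ (π ^ N) * e := by
  induction c using TensorProduct.induction_on with
  | zero => exact ⟨0, 0, by simp⟩
  | tmul b z =>
    obtain ⟨a, e, rfl⟩ := exists_sub v hπ K z N
    refine ⟨a • b, b ⊗ₜ e, ?_⟩
    rw [TensorProduct.tmul_add, ← Algebra.TensorProduct.includeRight.commutes (π ^ N),
      Algebra.TensorProduct.includeRight_apply, Algebra.TensorProduct.tmul_mul_tmul, one_mul,
      Algebra.algebraMap_eq_smul_one a, TensorProduct.tmul_smul, TensorProduct.smul_tmul']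
  | add x y hx hy =>
    obtain ⟨b, e, rfl⟩ := hx
    obtain ⟨b', e', rfl⟩ := hy
    exact ⟨b + b', e + e', by rw [TensorProduct.add_tmul]; ring⟩

variable [IsLocalRing (v.adicCompletionIntegers K)]

include hπ in
theorem mem_jacobson (P : Ideal (B ⊗[A] v.adicCompletionIntegers K)) [P.IsMaximal] :
    algebraMap A (B ⊗[A] v.adicCompletionIntegers K) π ∈ P := by
  letI : Algebra (v.adicCompletionIntegers K) (B ⊗[A] v.adicCompletionIntegers K) :=
    Algebra.TensorProduct.rightAlgebra
  haveI : Algebra.IsIntegral (v.adicCompletionIntegers K) (B ⊗[A] v.adicCompletionIntegers K) :=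
    haveI : Module.Finite (v.adicCompletionIntegers K) (B ⊗[A] v.adicCompletionIntegers K) :=
      Module.Finite.equiv (Algebra.TensorProduct.commRight A (v.adicCompletionIntegers K) B).toLinearEquiv
    Algebra.IsIntegral.of_finite _ _
  have hmax : (P.under (v.adicCompletionIntegers K)).IsMaximal := Ideal.IsMaximal.under _ P
  have h1 : algebraMap A (v.adicCompletionIntegers K) π ∈ P.under (v.adicCompletionIntegers K) := by
    rw [IsLocalRing.eq_maximalIdeal hmax]
    exact not_isUnit v hπ K
  have h2 := Ideal.mem_comap.1 h1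
  rwa [show algebraMap (v.adicCompletionIntegers K) (B ⊗[A] v.adicCompletionIntegers K)
    (algebraMap A (v.adicCompletionIntegers K) π) = algebraMap A _ π from
      Algebra.TensorProduct.includeRight.commutes π] at h2

include hπ in
/-- A unit of the generic fibre of the completion is an element of `B` up to a power of `π` and a unit of
the completion. -/
theorem exists_unit_decomp {u : B ⊗[A] v.adicCompletion K} (hu : IsUnit u) :
    ∃ (b : B) (n : ℕ) (w : (B ⊗[A] v.adicCompletionIntegers K)ˣ),
      algebraMap A (B ⊗[A] v.adicCompletion K) (π ^ n) * u * incl v K B w = b ⊗ₜ 1 := by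
  obtain ⟨u', hu'⟩ := hu.exists_right_inv
  obtain ⟨n, c, hc⟩ := exists_incl_eq v hπ K B u
  obtain ⟨m, d, hd⟩ := exists_incl_eq v hπ K B u'
  have hcd : c * d = algebraMap A _ (π ^ (n + m)) := by
    refine incl_injective v K B ?_
    rw [map_mul, ← hc, ← hd, AlgHom.map_algebraMap, pow_add, map_mul]
    linear_combination (algebraMap A (B ⊗[A] v.adicCompletion K) (π ^ n) *
      algebraMap A (B ⊗[A] v.adicCompletion K) (π ^ m)) * hu'
  obtain ⟨b, e, hce⟩ := exists_approx v hπ K B c (n + m + 1)
  have hunit : IsUnit (1 - algebraMap A (B ⊗[A] v.adicCompletionIntegers K) π * d * e) := by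
    by_contra h
    obtain ⟨P, hP, hmem⟩ := exists_max_ideal_of_mem_nonunits h
    have := mem_jacobson v hπ K B P
    exact hP.ne_top ((Ideal.eq_top_iff_one _).2 (by
      simpa using add_mem hmem (P.mul_mem_right e (P.mul_mem_right d this))))
  refine ⟨b, n, hunit.unit, ?_⟩
  rw [hc, IsUnit.unit_spec, ← map_mul]
  have h1 : c * (1 - algebraMap A (B ⊗[A] v.adicCompletionIntegers K) π * d * e) = b ⊗ₜ 1 := by
    rw [pow_succ, map_mul] at hce
    linear_combination hce - (algebraMap A (B ⊗[A] v.adicCompletionIntegers K) π * e) * hcd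
  rw [h1]
  rfl

end Algebra

end TorusDVRLib
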