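import Groth.Agent.TorusDVRLib.Compl
import Mathlib.RingTheory.DedekindDomain.IntegralClosure
import Mathlib.FieldTheory.Galois.Basic

/-!
# Decomposition of the units of a completed étale algebra
-/

set_option autoImplicit false
set_option linter.style.haveILetI false
set_option linter.unusedSectionVars false
universe u

open IsDedekindDomain
open scoped TensorProduct

noncomputable section

namespace TorusDVRLib

variable {A : Type u} [CommRing A] [IsDomain A] [IsDiscreteValuationRing A] (v : HeightOneSpectrum A)
  (K : Type u) [Field K] [Algebra A K] [IsFractionRing A K]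

theorem isUnit_algebraMap_compl {a : A} (ha : a ≠ 0) : IsUnit (algebraMap A (v.adicCompletion K) a) := by
  rw [IsScalarTower.algebraMap_apply A K (v.adicCompletion K)]
  refine isUnit_iff_ne_zero.2 fun h => ha ?_
  exact IsFractionRing.injective A K (((algebraMap K (v.adicCompletion K)).injective (h.trans (map_zero _).symm)).trans
    (map_zero _).symm)

section Coordinates

variable {B : Type u} [CommRing B] [Algebra A B]

/-- A functional applied to the first factor. -/
def ev (f : B →ₗ[A] A) (X : Type u) [CommRing X] [Algebra A X] : B ⊗[A] X →ₗ[A] X :=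
  (TensorProduct.lid A X).toLinearMap ∘ₗ f.rTensor X

theorem ev_tmul (f : B →ₗ[A] A) (X : Type u) [CommRing X] [Algebra A X] (b : B) (x : X) :
    ev f X (b ⊗ₜ x) = f b • x := by simp [ev]

variable [Module.Finite A B] [Module.Flat A B]

theorem ev_incl (f : B →ₗ[A] A) (c : B ⊗[A] v.adicCompletionIntegers K) :
    ev f (v.adicCompletion K) (incl v K B c) = (ev f (v.adicCompletionIntegers K) c : v.adicCompletion K) := by
  induction c using TensorProduct.induction_on with
  | zero => simp
  | tmul b z =>
    rw [show incl v K B (b ⊗ₜ z) = b ⊗ₜ (z : v.adicCompletion K) from rfl, ev_tmul, ev_tmul]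
    rfl
  | add x y hx hy => rw [map_add, map_add, map_add, hx, hy]; rfl

/-- Elements of the completion which are integral after extending scalars are integral. -/
theorem mem_integers_of_incl [Module.Free A B] [Nontrivial B] {k : v.adicCompletion K}
    {c : B ⊗[A] v.adicCompletionIntegers K} (h : (1 : B) ⊗ₜ[A] k = incl v K B c) :
    k ∈ v.adicCompletionIntegers K := by
  classical
  let bs := Module.Free.chooseBasis A B
  obtain ⟨i, hi⟩ : ∃ i, IsUnit (bs.coord i 1) := by
    by_contra hall
    push Not at hall
    haveI : Algebra.IsIntegral A B := Algebra.IsIntegral.of_finite A B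
    obtain ⟨P, hP⟩ := Ideal.exists_maximal B
    refine hP.ne_top ((Ideal.eq_top_iff_one _).2 ?_)
    rw [← bs.sum_repr 1]
    refine Ideal.sum_mem _ fun i _ => ?_
    rw [Algebra.smul_def]
    refine P.mul_mem_right _ (Ideal.mem_comap.1 ?_)
    show bs.coord i 1 ∈ P.under A
    rw [IsLocalRing.eq_maximalIdeal (Ideal.IsMaximal.under A P)]
    exact hall i
  have h1 := congrArg (ev ((↑hi.unit⁻¹ : A) • bs.coord i) (v.adicCompletion K)) h
  rw [ev_tmul, ev_incl, LinearMap.smul_apply, smul_eq_mul, IsUnit.val_inv_mul, one_smul] at h1
  rw [h1]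
  exact Subtype.prop _

variable {π : A} (hπ : Irreducible π)

include hπ in
theorem dvd_of_incl [Module.Free A B] {b : B} {n : ℕ} {c : B ⊗[A] v.adicCompletionIntegers K}
    (h : b ⊗ₜ[A] (1 : v.adicCompletion K) = algebraMap A (B ⊗[A] v.adicCompletion K) (π ^ n) * incl v K B c) :
    ∃ b', algebraMap A B (π ^ n) * b' = b := by
  classical
  let bs := Module.Free.chooseBasis A B
  have hd : ∀ i, π ^ n ∣ bs.coord i b := fun i => by
    have h1 := congrArg (ev (bs.coord i) (v.adicCompletion K)) h
    rw [ev_tmul, ← Algebra.smul_def (π ^ n) (incl v K B c), map_smul, ev_incl, ← Algebra.algebraMap_eq_smul_one,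
      Algebra.smul_def] at h1
    exact dvd_of_dvd v hπ K _ n _ h1
  choose q hq using hd
  refine ⟨∑ i, q i • bs i, ?_⟩
  rw [Finset.mul_sum, ← bs.sum_repr b]
  refine Finset.sum_congr rfl fun i _ => ?_
  rw [← Algebra.smul_def, smul_smul, ← hq i]
  rfl

end Coordinates

variable (M : Type u) [Field M] [Algebra K M] [Algebra A M] [IsScalarTower A K M] [FiniteDimensional K M]
  [IsGalois K M]

include K in
theorem finite_integralClosure : Module.Finite A (integralClosure A M) := IsIntegralClosure.finite A K M (integralClosure A M)

include K in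
theorem isTorsionFree_integralClosure : Module.IsTorsionFree A (integralClosure A M) :=
  haveI : FaithfulSMul A (integralClosure A M) := (faithfulSMul_iff_algebraMap_injective _ _).2 fun a b h =>
    IsFractionRing.injective A K ((algebraMap K M).injective (by
      rw [← IsScalarTower.algebraMap_apply, ← IsScalarTower.algebraMap_apply]
      exact congrArg Subtype.val h))
  inferInstance

include K in
theorem free_integralClosure : Module.Free A (integralClosure A M) :=
  haveI := finite_integralClosure K (A := A) M
  haveI := isTorsionFree_integralClosure K (A := A) M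
  inferInstance

/-- The field extension inside the completed algebra. -/
def jM : M →ₐ[A] (integralClosure A M) ⊗[A] v.adicCompletion K :=
  haveI : IsLocalization (Algebra.algebraMapSubmonoid (integralClosure A M) (nonZeroDivisors A)) M :=
    IsIntegralClosure.isLocalization A K M (integralClosure A M)
  have hu : ∀ s : Algebra.algebraMapSubmonoid (integralClosure A M) (nonZeroDivisors A),
      IsUnit (algebraMap (integralClosure A M) ((integralClosure A M) ⊗[A] v.adicCompletion K) s) := by
    rintro ⟨_, a, ha, rfl⟩
    have := (isUnit_algebraMap_compl v K (nonZeroDivisors.ne_zero ha)).map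
      (Algebra.TensorProduct.includeRight : v.adicCompletion K →ₐ[A] (integralClosure A M) ⊗[A] v.adicCompletion K)
    rw [AlgHom.commutes] at this
    rwa [← IsScalarTower.algebraMap_apply]
  { (IsLocalization.lift hu : M →+* _) with
    commutes' := fun a => by
      show IsLocalization.lift hu (algebraMap A M a) = _
      rw [IsScalarTower.algebraMap_apply A (integralClosure A M) M, IsLocalization.lift_eq, ← IsScalarTower.algebraMap_apply] }

theorem jM_coe (b : (integralClosure A M)) : jM v K M (b : M) = b ⊗ₜ 1 := by
  haveI : IsLocalization (Algebra.algebraMapSubmonoid (integralClosure A M) (nonZeroDivisors A)) M :=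
    IsIntegralClosure.isLocalization A K M (integralClosure A M)
  exact IsLocalization.lift_eq _ b

variable {π : A} (hπ : Irreducible π)

include K hπ in
theorem exists_num (m : M) : ∃ (b : (integralClosure A M)) (n : ℕ), algebraMap A M (π ^ n) * m = b := by
  haveI : IsLocalization (Algebra.algebraMapSubmonoid (integralClosure A M) (nonZeroDivisors A)) M :=
    IsIntegralClosure.isLocalization A K M (integralClosure A M)
  obtain ⟨⟨b, ⟨_, a, ha, rfl⟩⟩, h⟩ := IsLocalization.surj (Algebra.algebraMapSubmonoid (integralClosure A M) (nonZeroDivisors A)) m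
  obtain ⟨n, w, rfl⟩ := IsDiscreteValuationRing.eq_unit_mul_pow_irreducible (nonZeroDivisors.ne_zero ha) hπ
  refine ⟨algebraMap A (integralClosure A M) (↑w⁻¹ : A) * b, n, ?_⟩
  change m * (algebraMap A (integralClosure A M) (↑w * π ^ n) : M) = (b : M) at h
  rw [MulMemClass.coe_mul, ← h]
  change _ = algebraMap A M _ * (m * algebraMap A M _)
  rw [mul_left_comm, ← map_mul, ← mul_assoc (↑w⁻¹ : A), Units.inv_mul, one_mul, mul_comm]

include hπ in
/-- An element of the extension which is integral in the completion is integral. -/
theorem isIntegral_of_incl {m : M} [Module.Finite A (integralClosure A M)] [Module.Flat A (integralClosure A M)] [Module.Free A (integralClosure A M)]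
    {c : (integralClosure A M) ⊗[A] v.adicCompletionIntegers K} (h : jM v K M m = incl v K (integralClosure A M) c) : IsIntegral A m := by
  obtain ⟨b, n, hb⟩ := exists_num K M hπ m
  have h1 := congrArg (jM v K M) hb
  rw [map_mul, AlgHom.commutes, jM_coe, h] at h1
  obtain ⟨b', hb'⟩ := dvd_of_incl v K hπ h1.symm
  have hne : algebraMap A M (π ^ n) ≠ 0 := by
    rw [IsScalarTower.algebraMap_apply A K M]
    exact fun h0 => pow_ne_zero n hπ.ne_zero
      (IsFractionRing.injective A K (((algebraMap K M).injective (h0.trans (map_zero _).symm)).trans (map_zero _).symm))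
  have : m = (b' : M) := mul_left_cancel₀ hne (hb.trans (congrArg Subtype.val hb').symm)
  rw [this]
  exact b'.2

variable [Module.Finite A (integralClosure A M)] [Module.Flat A (integralClosure A M)] [Module.Free A (integralClosure A M)] [IsLocalRing (v.adicCompletionIntegers K)]
variable {G : Subgroup Mˣ}
  (hG1 : ∀ g ∈ G, IsIntegral A (g : M) → IsIntegral A ((g⁻¹ : Mˣ) : M) → g = 1)
  (hG2 : ∀ l : Mˣ, ∃ g ∈ G, IsIntegral A ((l / g : Mˣ) : M) ∧ IsIntegral A ((g / l : Mˣ) : M))

include hπ hG2 in
theorem exists_decomp {u : (integralClosure A M) ⊗[A] v.adicCompletion K} (hu : IsUnit u) :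
    ∃ g ∈ G, ∃ w : ((integralClosure A M) ⊗[A] v.adicCompletionIntegers K)ˣ, u = jM v K M (g : M) * incl v K (integralClosure A M) w := by
  obtain ⟨b, n, w, h⟩ := exists_unit_decomp v hπ K (integralClosure A M) hu
  have hinj : Function.Injective (Algebra.TensorProduct.includeLeft : (integralClosure A M) →ₐ[(integralClosure A M)] (integralClosure A M) ⊗[A] v.adicCompletion K) := by
    refine Algebra.TensorProduct.includeLeft_injective ?_
    rw [IsScalarTower.algebraMap_eq A K (v.adicCompletion K)]
    exact (algebraMap K (v.adicCompletion K)).injective.comp (IsFractionRing.injective A K)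
  haveI : Nontrivial ((integralClosure A M) ⊗[A] v.adicCompletion K) := hinj.nontrivial
  have hpn : IsUnit (algebraMap A ((integralClosure A M) ⊗[A] v.adicCompletion K) (π ^ n)) := by
    have := (isUnit_algebraMap_compl v K (pow_ne_zero n hπ.ne_zero)).map
      (Algebra.TensorProduct.includeRight : v.adicCompletion K →ₐ[A] (integralClosure A M) ⊗[A] v.adicCompletion K)
    rwa [AlgHom.commutes] at this
  have hb : (b : M) ≠ 0 := by
    intro hb0
    have hb0' : b = 0 := Subtype.ext hb0
    rw [hb0', TensorProduct.zero_tmul] at h
    exact ((hpn.mul hu).mul (w.isUnit.map (incl v K (integralClosure A M)))).ne_zero h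
  have hπM : algebraMap A M (π ^ n) ≠ 0 := by
    rw [IsScalarTower.algebraMap_apply A K M]
    exact fun h0 => pow_ne_zero n hπ.ne_zero
      (IsFractionRing.injective A K (((algebraMap K M).injective (h0.trans (map_zero _).symm)).trans (map_zero _).symm))
  obtain ⟨g, hg, h1, h2⟩ := hG2 (Units.mk0 (b : M) hb / Units.mk0 _ hπM)
  let b' : (integralClosure A M) := ⟨_, h1⟩
  let b'' : (integralClosure A M) := ⟨_, h2⟩
  have hbb : b' * b'' = 1 := Subtype.ext (by
    show ((_ / g : Mˣ) : M) * ((g / _ : Mˣ) : M) = 1
    rw [← Units.val_mul, div_mul_div_cancel, div_self', Units.val_one])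
  let wb : ((integralClosure A M) ⊗[A] v.adicCompletionIntegers K)ˣ :=
    Units.map (algebraMap (integralClosure A M) ((integralClosure A M) ⊗[A] v.adicCompletionIntegers K) : (integralClosure A M) →* (integralClosure A M) ⊗[A] v.adicCompletionIntegers K)
      (Units.mkOfMulEqOne b' b'' hbb)
  refine ⟨g, hg, wb * w⁻¹, ?_⟩
  have hval : algebraMap A M (π ^ n) * ((g : M) * (b' : M)) = (b : M) := by
    show algebraMap A M (π ^ n) * ((g : M) * ((_ / g : Mˣ) : M)) = (b : M)
    rw [← Units.val_mul, mul_div_cancel, Units.val_div_eq_div_val, Units.val_mk0, Units.val_mk0,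
      mul_div_cancel₀ _ hπM]
  have h3 := congrArg (jM v K M) hval
  rw [map_mul, map_mul, AlgHom.commutes, jM_coe, jM_coe] at h3
  have hwb : incl v K (integralClosure A M) (wb : (integralClosure A M) ⊗[A] v.adicCompletionIntegers K) = b' ⊗ₜ 1 := (incl v K (integralClosure A M)).commutes b'
  rw [Units.val_mul, map_mul, hwb, ← mul_assoc]
  refine ((w.isUnit.map (incl v K (integralClosure A M))).mul_left_inj).1 (hpn.mul_right_inj.1 ?_)
  rw [mul_assoc, ← map_mul, Units.inv_mul, map_one, mul_one, ← mul_assoc, h, h3]

include hπ hG1 in
theorem decomp_unique {g g' : Mˣ} (hg : g ∈ G) (hg' : g' ∈ G) {w w' : ((integralClosure A M) ⊗[A] v.adicCompletionIntegers K)ˣ}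
    (h : jM v K M (g : M) * incl v K (integralClosure A M) w = jM v K M (g' : M) * incl v K (integralClosure A M) w') : g = g' := by
  have key : ∀ {g g' : Mˣ} {w w' : ((integralClosure A M) ⊗[A] v.adicCompletionIntegers K)ˣ},
      jM v K M (g : M) * incl v K (integralClosure A M) w = jM v K M (g' : M) * incl v K (integralClosure A M) w' → IsIntegral A ((g / g' : Mˣ) : M) := by
    intro g g' w w' h
    refine isIntegral_of_incl v K M hπ (c := ((w' * w⁻¹ : ((integralClosure A M) ⊗[A] v.adicCompletionIntegers K)ˣ) : _)) ?_
    refine ((w.isUnit.map (incl v K (integralClosure A M))).mul_left_inj).1 ?_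
    rw [← map_mul, ← Units.val_mul, inv_mul_cancel_right]
    refine ((g'.isUnit.map (jM v K M)).mul_right_inj).1 ?_
    rw [← mul_assoc, ← map_mul, ← Units.val_mul, mul_div_cancel]
    exact h
  refine div_eq_one.1 (hG1 _ (div_mem hg hg') (key h) ?_)
  rw [inv_div]
  exact key h.symm

/-- The action of an automorphism on the completed algebra. -/
def galT (X : Type u) [CommRing X] [Algebra A X] (s : (integralClosure A M) →ₐ[A] (integralClosure A M)) : (integralClosure A M) ⊗[A] X →ₐ[A] (integralClosure A M) ⊗[A] X :=
  Algebra.TensorProduct.map s (AlgHom.id A X)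

theorem galT_incl (s : (integralClosure A M) →ₐ[A] (integralClosure A M)) (c : (integralClosure A M) ⊗[A] v.adicCompletionIntegers K) :
    galT M (v.adicCompletion K) s (incl v K (integralClosure A M) c) = incl v K (integralClosure A M) (galT M (v.adicCompletionIntegers K) s c) := by
  induction c using TensorProduct.induction_on with
  | zero => simp
  | tmul b z => rfl
  | add x y hx hy => simp only [map_add, hx, hy]

theorem galT_jM (σ : M →ₐ[A] M) (s : (integralClosure A M) →ₐ[A] (integralClosure A M)) (hs : ∀ b : (integralClosure A M), (s b : M) = σ b) (m : M) :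
    galT M (v.adicCompletion K) s (jM v K M m) = jM v K M (σ m) := by
  haveI : IsLocalization (Algebra.algebraMapSubmonoid (integralClosure A M) (nonZeroDivisors A)) M :=
    IsIntegralClosure.isLocalization A K M (integralClosure A M)
  have : ((galT M (v.adicCompletion K) s).comp (jM v K M)).toRingHom = ((jM v K M).comp σ).toRingHom := by
    refine IsLocalization.ringHom_ext (Algebra.algebraMapSubmonoid (integralClosure A M) (nonZeroDivisors A)) (RingHom.ext fun b => ?_)
    show galT M (v.adicCompletion K) s (jM v K M (b : M)) = jM v K M (σ (b : M))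
    rw [← hs, jM_coe, jM_coe]
    rfl
  exact RingHom.congr_fun this m

end TorusDVRLib
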